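import Cfsg.Agent.R2.PX.DdE
import Cfsg.Agent.ChevFast.E8
import Cfsg.Agent.R2.PX.Del_m3
import Cfsg.Agent.R2.T1.Inf.Dia
import Cfsg.Agent.R2.PX.W.Cl_m3
import Cfsg.Agent.R2.T1.Inf.Cnt_m3
import Cfsg.Agent.Prune
set_option linter.all false

section
prune_inst 0x7fffa9fbfbfffddfffff7fffa7decffdfbbb3fffe6fffdcbffe06bff0b9f5f90c9c76fad8bf832fe1ef7e21414f87b53ffffffffe86ffc7ffffdfff41ffbffdffdf63508519c8cb41fbc0ff783f07f8e7f3fffffffffffffffffffffffffffbeffbfffffffff

-- part: R2/PX/DdI
section
prune_inst 0x56040400022000000000082130000000000000000000000204007060a00c0208901200018101400809894802800000000000120000000000000000000000020880042061300a004060081800000000000000000000000000000000000000004000000000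
set_option linter.all false
open scoped Cfsg.Agent.FastGrp

/-!
# Pattern X: `DD` on the weight vectors and the identity (I) (helper3)

* `DD_bs_root` : `DD (bs a) (bs (op a'))` is a multiple of the root vector of `r` if `-r` maps `a` to `a'`;
* `DD_bs_op`, `DD_bs_zero`;
* `ident` : `DD x y z - DD x z y = 2 sf(y, z) x + sf(x, z) y - sf(x, y) z` (characteristic 5).
-/

set_option autoImplicit false
set_option maxRecDepth 100000

namespace Cfsg.Agent.R2.PX

open Cfsg Cfsg.Lie Matrix
open Cfsg.Agent.R2.T1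
open Cfsg.Agent.ChevalleyStructure.Elts Cfsg.Agent.ChevalleyStructure.RootVec
  Cfsg.Agent.ChevalleyStructure.RootVecTab
open Cfsg.Agent.H943.E7V.Block (D1 rho)

universe u
variable {F : Type u} [Field F]

theorem sf_bs_bs (a b : D1) : sf F (bs F a) (bs F b) = if b = op a then ((ep a : ℤ) : F) else 0 := by
  rw [sf_single]
  by_cases h : b = op a
  · rw [if_pos h, h, bs_self, mul_one]
  · rw [if_neg h, bs_ne (fun h' => h h'.symm), mul_zero]

/-- the diagonal part -/
theorem diag_part (a b c : D1) : ∑ d : D1, bs F a d * ((ep d : ℤ) : F) * bs F b (op d) * ((p2 d c : ℤ) : F) =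
    if b = op a then ((ep a : ℤ) : F) * ((p2 a c : ℤ) : F) else 0 := by
  rw [Finset.sum_eq_single a]
  · rw [bs_self, one_mul]
    by_cases h : b = op a
    · rw [if_pos h, h, bs_self, mul_one]
    · rw [if_neg h, bs_ne (fun h' => h h'.symm), mul_zero, zero_mul]
  · intro d _ hd
    rw [bs_ne hd]; ring
  · intro h; exact absurd (Finset.mem_univ _) h

theorem DD_bs_root {r : ℕ} (hr : r < 126) {a a' : D1} {c : ℤ} (h : mv (125 - r) (nn a) = some (nn a', c)) :
    DD F (bs F a) (bs F (op a')) = (-2 * (c : F) * ((ep a' : ℤ) : F)) • NM F r := by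
  have hne : a' ≠ a := by
    rintro rfl
    rcases mv_spec (show 125 - r < 126 by omega) a' with h1 | ⟨a2, c2, h1, -, h2, -⟩
    · rw [h] at h1; simp at h1
    · rw [h, Option.some.injEq, Prod.mk.injEq] at h1
      rw [← nn_inj h1.1, h] at h2; simp at h2
  rw [DD_eq]
  have h1 : (Matrix.diagonal fun c => ∑ d : D1, bs F a d * ((ep d : ℤ) : F) * bs F (op a') (op d) * ((p2 d c : ℤ) : F)) =
      (0 : Matrix D1 D1 F) := by
    rw [show (fun c => ∑ d : D1, bs F a d * ((ep d : ℤ) : F) * bs F (op a') (op d) * ((p2 d c : ℤ) : F)) = 0 from ?_]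
    · exact Matrix.diagonal_zero
    funext c'
    rw [diag_part, if_neg]
    · rfl
    · intro h2
      apply hne
      have := congrArg op h2
      rwa [op_op, op_op] at this
  rw [h1, sub_zero, Finset.sum_eq_single r]
  · rw [NM_bs_some h, map_smul, LinearMap.smul_apply, sf_bs_bs, if_pos rfl, smul_smul, smul_eq_mul]
    congr 1
    ring
  · intro r' hr' hne'
    have hr2 := Finset.mem_range.1 hr'
    rcases mv_spec (show 125 - r' < 126 by omega) a with h2 | ⟨a2, c2, h2, -, -, -⟩
    · rw [NM_bs_none h2, map_zero, LinearMap.zero_apply, zero_smul]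
    · rw [NM_bs_some h2, map_smul, LinearMap.smul_apply, sf_bs_bs, if_neg, smul_zero, zero_smul]
      intro h3
      have h4 : a' = a2 := by
        have := congrArg op h3
        rwa [op_op, op_op] at this
      subst h4
      have := root_unique (show 125 - r' < 126 by omega) (show 125 - r < 126 by omega) h2 h
      omega
  · intro h2; exact absurd (Finset.mem_range.2 hr) h2

theorem DD_bs_op (a : D1) : DD F (bs F a) (bs F (op a)) =
    - Matrix.diagonal fun c => ((ep a : ℤ) : F) * ((p2 a c : ℤ) : F) := by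
  rw [DD_eq]
  have h1 : (fun c => ∑ d : D1, bs F a d * ((ep d : ℤ) : F) * bs F (op a) (op d) * ((p2 d c : ℤ) : F)) =
      fun c => ((ep a : ℤ) : F) * ((p2 a c : ℤ) : F) := by
    funext c
    rw [diag_part, if_pos rfl]
  rw [h1, Finset.sum_eq_zero, smul_zero, zero_sub]
  intro r hr
  have hr2 := Finset.mem_range.1 hr
  rcases mv_spec (show 125 - r < 126 by omega) a with h2 | ⟨a2, c2, h2, -, h3, -⟩
  · rw [NM_bs_none h2, map_zero, LinearMap.zero_apply, zero_smul]
  · rw [NM_bs_some h2, map_smul, LinearMap.smul_apply, sf_bs_bs, if_neg, smul_zero, zero_smul]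
    intro h4
    have h5 : a = a2 := by
      have := congrArg op h4
      rwa [op_op, op_op] at this
    rw [← h5, h2] at h3; simp at h3

theorem DD_bs_zero {a b : D1} (h0 : b ≠ op a) (h : ∀ r < 126, ∀ c, mv r (nn a) ≠ some (nn (op b), c)) :
    DD F (bs F a) (bs F b) = 0 := by
  rw [DD_eq]
  have h1 : (fun c => ∑ d : D1, bs F a d * ((ep d : ℤ) : F) * bs F b (op d) * ((p2 d c : ℤ) : F)) = 0 := by
    funext c
    rw [diag_part, if_neg h0]; rfl
  rw [h1, show (Matrix.diagonal (0 : D1 → F)) = 0 from Matrix.diagonal_zero, sub_zero, Finset.sum_eq_zero, smul_zero]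
  intro r hr
  have hr2 := Finset.mem_range.1 hr
  rcases mv_spec (show 125 - r < 126 by omega) a with h2 | ⟨a2, c2, h2, -, h3, -⟩
  · rw [NM_bs_none h2, map_zero, LinearMap.zero_apply, zero_smul]
  · rw [NM_bs_some h2, map_smul, LinearMap.smul_apply, sf_bs_bs, if_neg, smul_zero, zero_smul]
    rintro rfl
    apply h (125 - r) (by omega) c2
    rw [h2, op_op]

/-! ### formal sums -/

/-- the vector of a formal sum of weights -/
def fv (F : Type u) [Field F] (L : List (ℕ × ℤ)) : D1 → F := fun a =>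
  (((L.filter fun x => Nat.beq x.1 (nn a)).map fun x => x.2).sum : ℤ)

theorem fv_apply (L : List (ℕ × ℤ)) (a : D1) :
    fv F L a = (((L.filter fun x => Nat.beq x.1 (nn a)).map fun x => x.2).sum : ℤ) := rfl

/-- the check that a formal sum vanishes -/
def fz (L : List (ℕ × ℤ)) : Bool := L.all fun x =>
  decide (((L.filter fun y => Nat.beq y.1 x.1).map fun y => y.2).sum = 0)

theorem fv_zero_of {L : List (ℕ × ℤ)} (h : fz L = true) : fv F L = 0 := by
  funext a
  rw [fv_apply]
  by_cases h1 : ∃ x ∈ L, x.1 = nn a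
  · obtain ⟨x, hx, hxa⟩ := h1
    have h2 := List.all_eq_true.1 h x hx
    rw [decide_eq_true_eq, hxa] at h2
    rw [h2]; simp
  · have h2 : (L.filter fun x => Nat.beq x.1 (nn a)) = [] := by
      rw [List.filter_eq_nil_iff]
      intro x hx hb
      exact h1 ⟨x, hx, Nat.eq_of_beq_eq_true hb⟩
    rw [h2]; simp

theorem fv_append (L M : List (ℕ × ℤ)) : fv F (L ++ M) = fv F L + fv F M := by
  funext a
  rw [Pi.add_apply, fv_apply, fv_apply, fv_apply, List.filter_append, List.map_append, List.sum_append]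
  push_cast
  rfl

theorem fv_single (b : D1) (k : ℤ) : fv F [(nn b, k)] = (k : F) • bs F b := by
  funext a
  rw [Pi.smul_apply, bs_apply, fv_apply]
  by_cases h : nn a = nn b
  · rw [List.filter_cons_of_pos (by simp [h]), if_pos h]; simp
  · rw [List.filter_cons_of_neg (by simpa using fun h' => h (Eq.symm h')), if_neg h]; simp

theorem fv_nil : fv F [] = 0 := by
  funext a
  rw [fv_apply]
  simp

/-! ### the highest weight -/

/-- the roots with `D(e_top, e_b) = 2 N_r` -/
def TT : List (ℕ × ℕ) := [(122, 63), (125, 65), (129, 68), (134, 72), (140, 77), (146, 82), (151, 86), (155, 89),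
  (158, 91), (160, 92), (168, 98), (173, 102), (177, 105), (180, 107), (182, 108), (187, 111), (190, 113), (192, 114),
  (196, 116), (198, 117), (201, 118), (206, 120), (208, 121), (211, 122), (215, 123), (220, 124), (227, 125)]

theorem chkTT : (TT.all fun x => decide (x.2 < 126) && decide (x.1 < 240) && decide (rt chevE8 x.1 7 = 1) &&
    decide (mv (125 - x.2) 238 = some ((st x.1).1, (st x.1).2))) = true := by decide +kernel

theorem chkTT2 : (W56.all fun s => Nat.beq s 120 || (TT.map fun x => x.1).contains s ||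
    (List.range 126).all fun r => bif Nat.beq (lk (PT.getD r 0) (238 - 120)) 0 then true else
      !(Nat.beq (lk (PT.getD r 0) (238 - 120) / 2) (st s).1)) = true := by decide +kernel

theorem nn_top : nn topv = 238 := rfl

/-- `D(e_top, e_b) e_c` as a formal sum -/
def tc (b c : ℕ) : List (ℕ × ℤ) :=
  bif Nat.beq b 120 then [(c, - (st 238).2 * p2n 238 c)] else
    match TT.find? fun x => Nat.beq x.1 b with
    | none => []
    | some x => match mv x.2 c with
      | none => []
      | some (u, k) => [(u, 2 * k)]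

theorem op_top : nn (op topv) = 120 := by
  have h := st_nn topv
  rw [← h]
  decide +kernel

theorem tc_spec (b c : D1) : DD F (bs F topv) (bs F b) *ᵥ bs F c = fv F (tc (nn b) (nn c)) := by
  unfold tc
  by_cases hb : nn b = 120
  · have h1 : b = op topv := nn_inj (by rw [hb, op_top])
    rw [hb, show Nat.beq 120 120 = true from rfl, cond_true, h1, DD_bs_op, Matrix.neg_mulVec, diag_bs, fv_single, ← neg_smul]
    congr 1
    have h2 : (st 238).2 = ep topv := by
      have := st_eq topv
      rw [nn_top] at this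
      rw [this]
    rw [h2, p2_nn, nn_top]
    push_cast
    ring
  · have h1 : Nat.beq (nn b) 120 = false := by
      rw [← Bool.not_eq_true]
      intro h; exact hb (Nat.eq_of_beq_eq_true h)
    rw [h1, cond_false]
    rcases hf : TT.find? (fun x => Nat.beq x.1 (nn b)) with _ | x
    · rw [hf, fv_nil]
      have h2 : DD F (bs F topv) (bs F b) = 0 := by
        refine DD_bs_zero (fun h => hb (by rw [h, op_top])) ?_
        intro r hr k h3
        have h4 := List.all_eq_true.1 chkTT2 (nn b) (nn_mem b)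
        rw [Bool.or_eq_true, Bool.or_eq_true, h1] at h4
        rcases h4 with (h4 | h4) | h4
        · exact absurd h4 (by simp)
        · rw [List.contains_iff_mem, List.mem_map] at h4
          obtain ⟨x, hx, hx'⟩ := h4
          rw [List.find?_eq_none] at hf
          exact hf x hx (by rw [hx']; exact Nat.beq_refl _)
        · have h5 := List.all_eq_true.1 h4 r (List.mem_range.2 hr)
          have h6 := lk_PT hr topv
          rw [nn_top] at h6
          rw [nn_top] at h3
          rw [h6, h3, st_nn] at h5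
          have h7 := two_le_nn (op b)
          have h8 : code (some (nn (op b), k)) / 2 = nn (op b) := by
            unfold code
            dsimp only
            cases (k == 1)
            · show (2 * nn (op b) + 1) / 2 = _; omega
            · show (2 * nn (op b) + 0) / 2 = _; omega
          have h9 : code (some (nn (op b), k)) ≠ 0 := by omega
          rw [beq_zero_false h9, cond_false, h8] at h5
          simp at h5
      rw [h2, Matrix.zero_mulVec]
    · rw [hf]
      dsimp only
      have hx := List.mem_of_find?_eq_some hf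
      have hx' : x.1 = nn b := by
        have := List.find?_some hf
        exact Nat.eq_of_beq_eq_true this
      have h2 := List.all_eq_true.1 chkTT x hx
      simp only [Bool.and_eq_true, decide_eq_true_eq] at h2
      obtain ⟨⟨⟨h3, h4⟩, h5⟩, h6⟩ := h2
      rw [hx'] at h6
      have h7 : mv (125 - x.2) (nn topv) = some (nn (op b), ep b) := by
        rw [nn_top, h6, st_eq]
      have h8 := DD_bs_root (F := F) h3 h7
      rw [op_op, ep_op] at h8
      have h9 : (-2 * ((ep b : ℤ) : F) * ((- ep b : ℤ) : F)) = 2 := by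
        have := cast_sq (F := F) (ep_sq b)
        push_cast
        linear_combination 2 * this
      rw [h8, h9, Matrix.smul_mulVec]
      rcases mv_spec h3 c with h10 | ⟨a, k, h10, -, -, -⟩
      · rw [NM_bs_none h10, h10, smul_zero]; exact fv_nil.symm
      · rw [NM_bs_some h10, h10]
        show _ = fv F [(nn a, 2 * k)]
        rw [fv_single, smul_smul]
        push_cast
        rfl

theorem chkI : (W56.all fun b => W56.all fun c =>
    fz (tc b c ++ ((tc c b).map fun x => (x.1, -x.2)) ++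
      ((bif Nat.beq c (st b).1 then [(238, -2 * (st b).2)] else []) ++
      (bif Nat.beq c 120 then [(b, - (st 238).2)] else []) ++
      (bif Nat.beq b 120 then [(c, (st 238).2)] else [])))) = true := by (delta Cfsg.Agent.R2.PX.p2n Cfsg.Agent.R2.PX.tc; rewrite [Cfsg.Agent.ChevFast.E8.cartan]; decide +kernel)

theorem fv_neg (L : List (ℕ × ℤ)) : fv F (L.map fun x => (x.1, -x.2)) = - fv F L := by
  induction L with
  | nil => rw [List.map_nil, fv_nil, neg_zero]
  | cons x L ih =>
    rw [List.map_cons, ← List.singleton_append, fv_append, ih, ← List.singleton_append (x := x), fv_append,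
      _root_.neg_add]
    congr 1
    funext a
    rw [Pi.neg_apply, fv_apply, fv_apply]
    rcases h : Nat.beq x.1 (nn a) <;> simp [h]

theorem ident_top_bs (b c : D1) : DD F (bs F topv) (bs F b) *ᵥ bs F c - DD F (bs F topv) (bs F c) *ᵥ bs F b =
    (2 * sf F (bs F b) (bs F c)) • bs F topv + sf F (bs F topv) (bs F c) • bs F b - sf F (bs F topv) (bs F b) • bs F c := by
  rw [tc_spec, tc_spec]
  have h := List.all_eq_true.1 (List.all_eq_true.1 chkI (nn b) (nn_mem b)) (nn c) (nn_mem c)
  have h0 := fv_zero_of (F := F) h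
  rw [fv_append, fv_append, fv_append, fv_append, fv_neg] at h0
  have hst : (st 238).2 = ep topv := by
    have := st_eq topv
    rw [nn_top] at this
    rw [this]
  have hstb : st (nn b) = (nn (op b), ep b) := st_eq b
  have e1 : fv F (bif Nat.beq (nn c) (st (nn b)).1 then [(238, -2 * (st (nn b)).2)] else []) =
      - ((2 * sf F (bs F b) (bs F c)) • bs F topv) := by
    rw [hstb, sf_bs_bs]
    by_cases h1 : c = op b
    · rw [if_pos h1, h1, Nat.beq_refl, cond_true, ← nn_top, fv_single, ← neg_smul]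
      congr 1
      push_cast
      ring
    · have h2 : Nat.beq (nn c) (nn (op b)) = false := by
        rw [← Bool.not_eq_true]
        intro h3; exact h1 (nn_inj (Nat.eq_of_beq_eq_true h3))
      rw [if_neg h1, h2, cond_false, fv_nil]; simp
  have key : ∀ d d' : D1, fv F (bif Nat.beq (nn d) 120 then [(nn d', (st 238).2)] else []) =
      sf F (bs F topv) (bs F d) • bs F d' := by
    intro d d'
    rw [sf_bs_bs, hst]
    by_cases h1 : d = op topv
    · rw [if_pos h1, h1, op_top, Nat.beq_refl, cond_true, fv_single]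
    · have h2 : Nat.beq (nn d) 120 = false := by
        rw [← Bool.not_eq_true]
        intro h3; exact h1 (nn_inj (by rw [Nat.eq_of_beq_eq_true h3, op_top]))
      rw [if_neg h1, h2, cond_false, fv_nil]; simp
  have e2 : fv F (bif Nat.beq (nn c) 120 then [(nn b, - (st 238).2)] else []) = - (sf F (bs F topv) (bs F c) • bs F b) := by
    rw [← key, ← fv_neg]
    congr 1
    cases Nat.beq (nn c) 120 <;> rfl
  have e3 := key b c
  rw [e1, e2, e3] at h0
  have h1 : fv F (tc (nn b) (nn c)) - fv F (tc (nn c) (nn b)) - ((2 * sf F (bs F b) (bs F c)) • bs F topv +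
      sf F (bs F topv) (bs F c) • bs F b - sf F (bs F topv) (bs F b) • bs F c) = 0 := by
    rw [← h0]; abel
  exact sub_eq_zero.1 h1

theorem vec_sum (v : D1 → F) : v = ∑ a, v a • bs F a := by
  funext b
  rw [Finset.sum_apply, Finset.sum_eq_single b]
  · rw [Pi.smul_apply, bs_self, smul_eq_mul, mul_one]
  · intro a _ ha
    rw [Pi.smul_apply, bs_ne (Ne.symm ha), smul_zero]
  · intro h; exact absurd (Finset.mem_univ _) h

/-- the defect of the identity as a trilinear map -/
noncomputable def defc (x y z : D1 → F) : D1 → F := DD F x y *ᵥ z - DD F x z *ᵥ y -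
  ((2 * sf F y z) • x + sf F x z • y - sf F x y • z)

theorem defc_add_right (x y z z' : D1 → F) : defc x y (z + z') = defc x y z + defc x y z' := by
  unfold defc
  simp only [Matrix.mulVec_add, DD_add_right, Matrix.add_mulVec, map_add, mul_add, add_smul, smul_add]
  abel

theorem defc_smul_right (c : F) (x y z : D1 → F) : defc x y (c • z) = c • defc x y z := by
  unfold defc
  simp only [Matrix.mulVec_smul, DD_smul_right, Matrix.smul_mulVec, map_smul, smul_eq_mul, smul_sub, smul_add, smul_smul]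
  congr 2
  · congr 2 <;> ring_nf
  · ring_nf

theorem defc_zero_right (x y : D1 → F) : defc x y 0 = 0 := by
  have := defc_smul_right 0 x y 0
  rwa [zero_smul, zero_smul] at this

theorem defc_sum_right {ι : Type*} (s : Finset ι) (x y : D1 → F) (f : ι → D1 → F) :
    defc x y (∑ i ∈ s, f i) = ∑ i ∈ s, defc x y (f i) := by
  classical
  induction s using Finset.induction_on with
  | empty => rw [Finset.sum_empty, Finset.sum_empty, defc_zero_right]
  | insert a s ha ih => rw [Finset.sum_insert ha, Finset.sum_insert ha, defc_add_right, ih]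

theorem defc_swap (x y z : D1 → F) : defc x y z = - defc x z y := by
  unfold defc
  rw [sf_swap y z]
  have : (2 * -sf F z y) • x = - ((2 * sf F z y) • x) := by rw [← neg_smul]; ring_nf
  rw [this]
  abel

section five
variable [CharP F 5]

theorem defc_equi (g : Gh F) (x y z : D1 → F) : defc (V F g x) (V F g y) (V F g z) = V F g (defc x y z) := by
  unfold defc
  simp only [DD_V, sf_V, map_sub, map_add, map_smul]

theorem defc_zero (x y z : D1 → F) : defc x y z = 0 := by
  -- the set of `x` is a submodule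
  set W : Submodule F (D1 → F) :=
    { carrier := {x | ∀ y z, defc x y z = 0}
      add_mem' := by
        intro a b ha hb y z
        have h1 : defc (a + b) y z = defc a y z + defc b y z := by
          unfold defc
          simp only [DD_add_left, Matrix.add_mulVec, map_add, LinearMap.add_apply, add_smul, smul_add]
          abel
        rw [h1, ha, hb, add_zero]
      zero_mem' := by
        intro y z
        unfold defc
        rw [DD_zero_left, DD_zero_left]
        simp
      smul_mem' := by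
        intro c a ha y z
        have h1 : defc (c • a) y z = c • defc a y z := by
          unfold defc
          simp only [DD_smul_left, Matrix.smul_mulVec, map_smul, LinearMap.smul_apply, smul_eq_mul, smul_sub, smul_add,
            smul_smul]
          congr 2
          congr 2
          ring_nf
        rw [h1, ha, smul_zero] } with hW
  have hst : ∀ g : Gh F, ∀ w ∈ W, V F g w ∈ W := by
    intro g w hw y z
    have h1 := defc_equi g w (V F g⁻¹ y) (V F g⁻¹ z)
    rw [V_inv', V_inv'] at h1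
    rw [h1, hw, map_zero]
  have htop : bs F topv ∈ W := by
    intro y z
    have h1 : ∀ b c : D1, defc (bs F topv) (bs F b) (bs F c) = 0 := fun b c => by
      unfold defc
      rw [ident_top_bs, sub_self]
    have h2 : ∀ b : D1, ∀ z, defc (bs F topv) (bs F b) z = 0 := by
      intro b z
      rw [vec_sum z, defc_sum_right]
      exact Finset.sum_eq_zero fun c _ => by rw [defc_smul_right, h1, smul_zero]
    rw [defc_swap, vec_sum y, defc_sum_right, neg_eq_zero]
    exact Finset.sum_eq_zero fun c _ => by rw [defc_smul_right, defc_swap, h2, neg_zero, smul_zero]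
  have hne : W ≠ ⊥ := by
    intro h
    rw [h, Submodule.mem_bot] at htop
    have := congrFun htop topv
    rw [bs_self] at this
    exact one_ne_zero this
  have := irred hst hne
  have hx : x ∈ W := by rw [this]; trivial
  exact hx y z

/-- **the identity (I)** -/
theorem ident (x y z : D1 → F) : DD F x y *ᵥ z - DD F x z *ᵥ y =
    (2 * sf F y z) • x + sf F x z • y - sf F x y • z := sub_eq_zero.1 (defc_zero x y z)

end five

end Cfsg.Agent.R2.PX
end

-- part: R2/T1/Mu/Equ
section
prune_inst 0x10040400022000000000080030000400000000000030000800003060200806000000640280004108000941028000000000001000028000000000800000000209000420002000004060001800000000000000000000000000000000000000000000000000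
set_option linter.all false
open scoped Cfsg.Agent.FastGrp

/-!
# MU27 (S5771): the map `DD` over every field (helper27)

* `del_inj` : the 56-dimensional module of the Lie algebra is faithful, over every field;
* `equi : Equi F` : `DD F (V g x) (V g y) * rho g = rho g * DD F x y`, over every field;
* `DD_V`, `dd_equi`, `dd_L` (`2 ≠ 0`);
* `ident` : `DD x y z - DD x z y = 2 sf(y, z) x + sf(x, z) y - sf(x, y) z`, over every field.
-/

set_option autoImplicit false
set_option maxRecDepth 100000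

namespace Cfsg.Agent.R2.T1.Mu

open Cfsg Cfsg.Lie Matrix
open Cfsg.Agent.R2.T1 Cfsg.Agent.R2.PX
open Cfsg.Agent.H943.E7V.Block (D1 rho)

universe u

/-! ### faithfulness -/

section
variable {F : Type u} [Field F]

theorem del_entry (z : chevE7.Idx → F) {s : ℕ} (hs : s < 126) {a b : D1} {c : ℤ} (h : mv s (nn b) = some (nn a, c)) :
    del F z a b = z (Sum.inr ⟨s, hs⟩) * (c : F) := by
  have hab : a ≠ b := by
    rintro rfl
    have := p2_of_mv hs h
    rw [p2_self] at this
    omega
  rw [del_apply, Matrix.add_apply, Matrix.sum_apply, Matrix.sum_apply, Finset.sum_eq_zero, zero_add,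
    Finset.sum_eq_single ⟨s, hs⟩]
  · rw [Matrix.smul_apply, smul_eq_mul]
    show _ * ((nz s a b : ℤ) : F) = _
    rw [nz_some h, if_pos rfl]
  · intro r' _ hne
    rw [Matrix.smul_apply, smul_eq_mul]
    show _ * ((nz r' a b : ℤ) : F) = 0
    by_cases h0 : nz r' a b = 0
    · rw [h0, Int.cast_zero, mul_zero]
    · obtain ⟨c', h1, -⟩ := nz_ne h0
      exact absurd (Fin.ext (mv_unique r'.2 hs h1 h)) hne
  · intro h1; exact absurd (Finset.mem_univ _) h1
  · intro i _
    rw [Matrix.smul_apply, Hi, Matrix.diagonal_apply_ne _ hab, smul_zero]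

/-- the module of the Lie algebra is faithful -/
theorem del_inj {z : chevE7.Idx → F} (h : del F z = 0) : z = 0 := by
  have hr : ∀ s : Fin chevE7.nroots, z (Sum.inr s) = 0 := by
    intro s
    have hs : (s : ℕ) < 126 := s.2
    obtain ⟨a, b, c, h1, h2⟩ := Tr.exists_entry hs
    have h3 := del_entry z hs h1
    rw [h, Matrix.zero_apply] at h3
    exact (mul_eq_zero.1 h3.symm).resolve_right (cast_ne h2)
  have hb : ∀ b : D1, ∑ i : Fin chevE7.rank, z (Sum.inl i) * ((chevE8.cartan i (nn b) : ℤ) : F) = 0 := by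
    intro b
    have h1 : (del F z *ᵥ bs F b) b = 0 := by rw [h, Matrix.zero_mulVec]; rfl
    rw [del_apply] at h1
    simp only [hr, zero_smul, Finset.sum_const_zero, add_zero] at h1
    rw [Matrix.sum_mulVec, Finset.sum_apply] at h1
    rw [← h1]
    refine Finset.sum_congr rfl fun i _ => ?_
    rw [Matrix.smul_mulVec, Pi.smul_apply, Hi_mulVec, bs_self, mul_one, smul_eq_mul]
  funext j
  rcases j with i | s
  · have h1 : ∑ k : Fin 7, (((bi.getD i []).getD k 0 : ℤ) : F) *
        ∑ j : Fin chevE7.rank, z (Sum.inl j) * ((chevE8.cartan j (nn (bd k)) : ℤ) : F) = 0 :=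
      Finset.sum_eq_zero fun k _ => by rw [hb, mul_zero]
    have h2 : ∀ j : Fin chevE7.rank, ∑ k : Fin 7, (((bi.getD i []).getD k 0 : ℤ) : F) *
        ((chevE8.cartan j (nn (bd k)) : ℤ) : F) = if (i : ℕ) = (j : ℕ) then 1 else 0 := by
      intro j
      have h3 := bi_bw i i.2 j j.2
      have h4 : ((List.range 7).map fun k => (bi.getD i []).getD k 0 * chevE8.cartan j (bw.getD k 0)).sum =
          ∑ k : Fin 7, (bi.getD i []).getD k 0 * chevE8.cartan j (bw.getD k 0) := by
        rw [sum_range7]; rfl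
      rw [h4] at h3
      have h5 : ∑ k : Fin 7, (((bi.getD i []).getD k 0 : ℤ) : F) * ((chevE8.cartan j (nn (bd k)) : ℤ) : F) =
          ((∑ k : Fin 7, (bi.getD i []).getD k 0 * chevE8.cartan j (bw.getD k 0) : ℤ) : F) := by
        rw [Int.cast_sum]
        refine Finset.sum_congr rfl fun k _ => ?_
        rw [Int.cast_mul]
        rfl
      rw [h5, h3]
      split_ifs <;> simp
    simp only [Finset.mul_sum] at h1
    rw [Finset.sum_comm] at h1
    have h6 : ∀ j : Fin chevE7.rank, ∑ k : Fin 7, (((bi.getD i []).getD k 0 : ℤ) : F) *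
        (z (Sum.inl j) * ((chevE8.cartan j (nn (bd k)) : ℤ) : F)) = if i = j then z (Sum.inl j) else 0 := by
      intro j
      have : ∀ k : Fin 7, (((bi.getD i []).getD k 0 : ℤ) : F) *
        (z (Sum.inl j) * ((chevE8.cartan j (nn (bd k)) : ℤ) : F)) = z (Sum.inl j) * ((((bi.getD i []).getD k 0 : ℤ) : F) *
          ((chevE8.cartan j (nn (bd k)) : ℤ) : F)) := fun k => by ring
      rw [Finset.sum_congr rfl fun k _ => this k, ← Finset.mul_sum, h2 j]
      by_cases hij : i = j
      · rw [if_pos hij, if_pos (by rw [hij]), mul_one]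
      · rw [if_neg hij, if_neg fun h => hij (Fin.ext h), mul_zero]
    rw [Finset.sum_congr rfl fun j _ => h6 j, Finset.sum_ite_eq, if_pos (Finset.mem_univ _)] at h1
    exact h1
  · exact hr s

theorem del_injective : Function.Injective (del F) := by
  intro z w h
  have h1 : del F (z - w) = 0 := by rw [map_sub, h, sub_self]
  exact sub_eq_zero.1 (del_inj h1)

theorem dd_eq_zero_iff (x y : D1 → F) : dd x y = 0 ↔ DD F x y = 0 := by
  constructor
  · intro h; rw [← del_dd, h, map_zero]
  · intro h; rw [← del_dd] at h; exact del_inj h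

/-! ### equivariance if `24 ≠ 0` -/

theorem dd_equi_24 (h2 : (2 : F) ≠ 0) (h24 : (24 : F) ≠ 0) (g : Gh F) (x y : D1 → F) :
    adM F g *ᵥ dd x y = dd (V F g x) (V F g y) := by
  have hg : rho F g⁻¹ * rho F g = 1 := by rw [← map_mul, inv_mul_cancel, map_one]
  have hg' : rho F g * rho F g⁻¹ = 1 := by rw [← map_mul, mul_inv_cancel, map_one]
  have h24' : (-24 : F) ≠ 0 := neg_ne_zero.2 h24
  rw [← sub_eq_zero]
  apply del_inj
  have key : ∀ z : chevE7.Idx → F, (∀ x y, Matrix.trace (del F z * DD F x y) = 0) → del F z = 0 := by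
    intro z h
    refine mat_ext fun b => ?_
    rw [Matrix.zero_mulVec]
    refine sf_nondeg' fun y => ?_
    have h1 := h (bs F b) y
    rw [trace_del_DD] at h1
    exact (mul_eq_zero.1 h1).resolve_left h24'
  apply key
  intro u v
  rw [map_sub, Matrix.sub_mul, Matrix.trace_sub, sub_eq_zero]
  set w := dd u v with hw
  rw [← del_dd u v, ← hw]
  have e1 : del F (adM F g *ᵥ dd x y) = rho F g * del F (dd x y) * rho F g⁻¹ := by
    rw [del_equi h2 g (dd x y), Matrix.mul_assoc, hg', Matrix.mul_one]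
  have e2 : rho F g⁻¹ * del F w * rho F g = del F (adM F g⁻¹ *ᵥ w) := by
    rw [del_equi h2 g⁻¹ w, Matrix.mul_assoc, hg, Matrix.mul_one]
  calc Matrix.trace (del F (adM F g *ᵥ dd x y) * del F w)
      = Matrix.trace (rho F g⁻¹ * del F w * rho F g * del F (dd x y)) := by
        rw [e1, Matrix.mul_assoc, Matrix.mul_assoc, Matrix.trace_mul_comm, Matrix.mul_assoc, Matrix.trace_mul_comm]
    _ = -24 * sf F ((rho F g⁻¹ * del F w * rho F g) *ᵥ x) y := by rw [e2, del_dd, trace_del_DD]
    _ = -24 * sf F (V F g ((rho F g⁻¹ * del F w * rho F g) *ᵥ x)) (V F g y) := by rw [sf_V]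
    _ = -24 * sf F (del F w *ᵥ V F g x) (V F g y) := by
        congr 3
        rw [V_apply, V_apply, Matrix.mulVec_mulVec, Matrix.mulVec_mulVec, ← Matrix.mul_assoc, ← Matrix.mul_assoc, hg',
          Matrix.one_mul]
    _ = _ := by rw [← trace_del_DD, ← del_dd, Matrix.trace_mul_comm]

theorem equi_24 (h2 : (2 : F) ≠ 0) (h24 : (24 : F) ≠ 0) : Equi F := by
  intro g x y
  rw [← del_dd, ← dd_equi_24 h2 h24, ← del_equi h2, del_dd]

end

/-! ### integral matrices -/

/-- the integral matrix of a root vector -/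
def NZ (r : ℕ) : Matrix D1 D1 ℤ := Matrix.of fun a b => nz r a b

/-- the integral form -/
noncomputable def sz (x y : D1 → ℤ) : ℤ := ∑ a, x a * (ep a * y (op a))

/-- the integral `DD` -/
noncomputable def DZ (x y : D1 → ℤ) : Matrix D1 D1 ℤ :=
  (-2 : ℤ) • (∑ r ∈ Finset.range 126, sz (NZ (125 - r) *ᵥ x) y • NZ r) -
    Matrix.diagonal fun c => ∑ a : D1, x a * ep a * y (op a) * p2 a c

section
variable (F : Type u) [Field F]

/-- the image of an integral vector -/
def cz (x : D1 → ℤ) : D1 → F := fun a => (x a : F)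

variable {F}

theorem NZ_map (r : ℕ) : (NZ r).map (Int.castRingHom F) = NM F r := rfl

theorem cz_mulVec (r : ℕ) (x : D1 → ℤ) : cz F (NZ r *ᵥ x) = NM F r *ᵥ cz F x := by
  funext a
  show (((NZ r *ᵥ x) a : ℤ) : F) = _
  rw [Matrix.mulVec, Matrix.mulVec, dotProduct, dotProduct, Int.cast_sum]
  refine Finset.sum_congr rfl fun b _ => ?_
  rw [Int.cast_mul]
  rfl

theorem sf_cz (x y : D1 → ℤ) : sf F (cz F x) (cz F y) = ((sz x y : ℤ) : F) := by
  rw [sf_sum, sz, Int.cast_sum]
  refine Finset.sum_congr rfl fun b _ => ?_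
  rw [Int.cast_mul, Int.cast_mul]
  rfl

theorem DD_cz (x y : D1 → ℤ) : DD F (cz F x) (cz F y) = (DZ x y).map (Int.castRingHom F) := by
  ext b c
  rw [DD_eq, Matrix.map_apply, DZ, Matrix.sub_apply, Matrix.sub_apply, map_sub]
  congr 1
  · rw [Matrix.smul_apply, Matrix.smul_apply, smul_eq_mul, smul_eq_mul, map_mul, Matrix.sum_apply, Matrix.sum_apply,
      map_sum]
    congr 1
    · simp
    · refine Finset.sum_congr rfl fun r _ => ?_
      rw [Matrix.smul_apply, Matrix.smul_apply, smul_eq_mul, smul_eq_mul, map_mul, ← cz_mulVec, sf_cz]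
      rfl
  · by_cases hbc : b = c
    · rw [hbc, Matrix.diagonal_apply_eq, Matrix.diagonal_apply_eq, map_sum]
      refine Finset.sum_congr rfl fun a _ => ?_
      rw [map_mul, map_mul, map_mul]
      rfl
    · rw [Matrix.diagonal_apply_ne _ hbc, Matrix.diagonal_apply_ne _ hbc, map_zero]

theorem bs_cz (a : D1) : bs F a = cz F (Pi.single a 1) := by
  funext b
  show _ = (((Pi.single a 1 : D1 → ℤ) b : ℤ) : F)
  by_cases h : b = a
  · rw [h, bs_self, Pi.single_eq_same, Int.cast_one]
  · rw [PX.bs_ne h, Pi.single_eq_of_ne h, Int.cast_zero]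

end

theorem map_inj_rat {A B : Matrix D1 D1 ℤ} (h : A.map (Int.castRingHom ℚ) = B.map (Int.castRingHom ℚ)) : A = B := by
  ext a b
  have := congrFun (congrFun h a) b
  rw [Matrix.map_apply, Matrix.map_apply] at this
  exact Int.cast_injective this

/-- the identities over `ℚ` -/
theorem rat_ident {r : ℕ} (hr : r < 126) (x y : D1 → ℚ) :
    (DD ℚ (NM ℚ r *ᵥ x) y + DD ℚ x (NM ℚ r *ᵥ y) + DD ℚ x y * NM ℚ r = NM ℚ r * DD ℚ x y) ∧
    (DD ℚ (NM ℚ r *ᵥ x) (NM ℚ r *ᵥ y) + (DD ℚ (NM ℚ r *ᵥ x) y + DD ℚ x (NM ℚ r *ᵥ y)) * NM ℚ r = 0) ∧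
    DD ℚ (NM ℚ r *ᵥ x) (NM ℚ r *ᵥ y) * NM ℚ r = 0 := by
  set N := NM ℚ r with hN
  set A := DD ℚ x y with hA
  set B := DD ℚ (N *ᵥ x) y + DD ℚ x (N *ᵥ y) with hB
  set C := DD ℚ (N *ᵥ x) (N *ᵥ y) with hC
  have key : ∀ t : ℚ, t • (B + A * N - N * A) + (t ^ 2) • (C + B * N) + (t ^ 3) • (C * N) = 0 := by
    intro t
    have h := equi_24 (F := ℚ) (by norm_num) (by norm_num) (xs ℚ r t) x y
    rw [V_xs hr, V_xs hr, rho_xs' hr, DD_add_left, DD_add_right, DD_add_right, DD_smul_left, DD_smul_left, DD_smul_right,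
      DD_smul_right] at h
    have h' : (A + t • DD ℚ x (N *ᵥ y) + (t • DD ℚ (N *ᵥ x) y + t • t • C)) * (1 + t • N) = (1 + t • N) * A := h
    have h2 : A + t • DD ℚ x (N *ᵥ y) + (t • DD ℚ (N *ᵥ x) y + t • t • C) = A + t • B + (t ^ 2) • C := by
      rw [hB, smul_add, smul_smul, pow_two]; abel
    rw [h2] at h'
    have h3 : (A + t • B + (t ^ 2) • C) * (1 + t • N) - (1 + t • N) * A = 0 := sub_eq_zero.2 h'
    rw [← h3]
    simp only [Matrix.add_mul, Matrix.mul_add, Matrix.mul_one, Matrix.one_mul, Matrix.smul_mul, Matrix.mul_smul, smul_add,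
      smul_sub, smul_smul]
    have e1 : t * t = t ^ 2 := by ring
    have e2 : t * t ^ 2 = t ^ 3 := by ring
    rw [e1, e2]
    abel
  have k1 := key 1
  have k2 := key (-1)
  have k3 := key 2
  set X := B + A * N - N * A
  set Y := C + B * N
  set Z := C * N
  have e1 : X + Y + Z = 0 := by simpa using k1
  have e2 : -X + Y - Z = 0 := by
    have : (-1 : ℚ) ^ 3 = -1 := by norm_num
    rw [this] at k2
    simpa [sub_eq_add_neg] using k2
  have e3 : (2 : ℚ) • X + (4 : ℚ) • Y + (8 : ℚ) • Z = 0 := by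
    have : (2 : ℚ) ^ 3 = 8 := by norm_num
    have h4 : (2 : ℚ) ^ 2 = 4 := by norm_num
    rw [this, h4] at k3
    exact k3
  have hY : Y = 0 := by
    have : (2 : ℚ) • Y = 0 := by
      have : (2 : ℚ) • Y = (X + Y + Z) + (-X + Y - Z) := by rw [two_smul]; abel
      rw [this, e1, e2, add_zero]
    exact (smul_eq_zero.1 this).resolve_left (by norm_num)
  rw [hY] at e1 e3
  have hX : X = -Z := by
    rw [add_zero] at e1
    exact eq_neg_of_add_eq_zero_left e1
  have hZ : Z = 0 := by
    rw [hX] at e3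
    have : (6 : ℚ) • Z = 0 := by
      rw [← e3]; module
    exact (smul_eq_zero.1 this).resolve_left (by norm_num)
  refine ⟨?_, hY, hZ⟩
  rw [hZ, neg_zero] at hX
  exact sub_eq_zero.1 hX

/-- the identities over `ℤ` -/
theorem int_ident {r : ℕ} (hr : r < 126) (x y : D1 → ℤ) :
    (DZ (NZ r *ᵥ x) y + DZ x (NZ r *ᵥ y) + DZ x y * NZ r = NZ r * DZ x y) ∧
    (DZ (NZ r *ᵥ x) (NZ r *ᵥ y) + (DZ (NZ r *ᵥ x) y + DZ x (NZ r *ᵥ y)) * NZ r = 0) ∧
    DZ (NZ r *ᵥ x) (NZ r *ᵥ y) * NZ r = 0 := by
  obtain ⟨h1, h2, h3⟩ := rat_ident hr (cz ℚ x) (cz ℚ y)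
  simp only [← cz_mulVec] at h1 h2 h3
  simp only [DD_cz] at h1 h2 h3
  simp only [← NZ_map] at h1 h2 h3
  refine ⟨map_inj_rat ?_, map_inj_rat ?_, map_inj_rat ?_⟩
  · rw [Matrix.map_add _ (fun a b => map_add _ a b), Matrix.map_add _ (fun a b => map_add _ a b), Matrix.map_mul,
      Matrix.map_mul]
    exact h1
  · rw [Matrix.map_add _ (fun a b => map_add _ a b), Matrix.map_mul, Matrix.map_add _ (fun a b => map_add _ a b),
      Matrix.map_zero _ (map_zero _)]
    exact h2
  · rw [Matrix.map_mul, Matrix.map_zero _ (map_zero _)]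
    exact h3

section
variable {F : Type u} [Field F]

/-- two bilinear maps which agree on the weight vectors -/
theorem bilin_ext {M : Type*} [AddCommGroup M] [Module F M] {f g : (D1 → F) →ₗ[F] (D1 → F) →ₗ[F] M}
    (h : ∀ a b, f (bs F a) (bs F b) = g (bs F a) (bs F b)) : f = g := by
  refine LinearMap.ext fun x => LinearMap.ext fun y => ?_
  rw [vec_sum x, vec_sum y]
  simp only [map_sum, LinearMap.sum_apply, map_smul, LinearMap.smul_apply, h]

theorem field_ident {r : ℕ} (hr : r < 126) (x y : D1 → F) :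
    (DD F (NM F r *ᵥ x) y + DD F x (NM F r *ᵥ y) + DD F x y * NM F r = NM F r * DD F x y) ∧
    (DD F (NM F r *ᵥ x) (NM F r *ᵥ y) + (DD F (NM F r *ᵥ x) y + DD F x (NM F r *ᵥ y)) * NM F r = 0) ∧
    DD F (NM F r *ᵥ x) (NM F r *ᵥ y) * NM F r = 0 := by
  set N := NM F r with hN
  set nl : (D1 → F) →ₗ[F] (D1 → F) := Matrix.mulVecLin N with hnl
  have hnla : ∀ v, nl v = N *ᵥ v := fun v => Matrix.mulVecLin_apply N v
  set T := DDL F with hT
  have hTa : ∀ u v, T u v = DD F u v := fun u v => DDL_apply u v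
  have base : ∀ a b : D1, _ := fun a b => int_ident hr (Pi.single a 1) (Pi.single b 1)
  have mm : ∀ A B : Matrix D1 D1 ℤ, (A * B).map (Int.castRingHom F) = A.map (Int.castRingHom F) * B.map (Int.castRingHom F) :=
    fun A B => Matrix.map_mul
  have ma : ∀ A B : Matrix D1 D1 ℤ, (A + B).map (Int.castRingHom F) = A.map (Int.castRingHom F) + B.map (Int.castRingHom F) :=
    fun A B => Matrix.map_add _ (fun a b => map_add _ a b) A B
  refine ⟨?_, ?_, ?_⟩
  · have h : T ∘ₗ nl + T.compl₂ nl + T.compr₂ (LinearMap.mulRight F N) = T.compr₂ (LinearMap.mulLeft F N) := by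
      refine bilin_ext fun a b => ?_
      simp only [LinearMap.add_apply, LinearMap.comp_apply, LinearMap.compl₂_apply, LinearMap.compr₂_apply, hnla, hTa,
        LinearMap.mulRight_apply, LinearMap.mulLeft_apply]
      rw [hN, bs_cz, bs_cz, ← cz_mulVec, ← cz_mulVec, DD_cz, DD_cz, DD_cz, ← NZ_map, ← ma, ← mm, ← ma, ← mm, (base a b).1]
    have := LinearMap.congr_fun₂ h x y
    simpa only [LinearMap.add_apply, LinearMap.comp_apply, LinearMap.compl₂_apply, LinearMap.compr₂_apply, hnla, hTa,
        LinearMap.mulRight_apply, LinearMap.mulLeft_apply] using this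
  · have h : (T ∘ₗ nl).compl₂ nl + (T ∘ₗ nl + T.compl₂ nl).compr₂ (LinearMap.mulRight F N) = 0 := by
      refine bilin_ext fun a b => ?_
      simp only [LinearMap.add_apply, LinearMap.comp_apply, LinearMap.compl₂_apply, LinearMap.compr₂_apply, hnla, hTa,
        LinearMap.mulRight_apply, LinearMap.zero_apply]
      rw [hN, bs_cz, bs_cz, ← cz_mulVec, ← cz_mulVec, DD_cz, DD_cz, DD_cz, ← NZ_map, ← ma, ← mm, ← ma, (base a b).2.1,
        Matrix.map_zero _ (map_zero _)]
    have := LinearMap.congr_fun₂ h x y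
    simpa only [LinearMap.add_apply, LinearMap.comp_apply, LinearMap.compl₂_apply, LinearMap.compr₂_apply, hnla, hTa,
        LinearMap.mulRight_apply, LinearMap.zero_apply] using this
  · have h : ((T ∘ₗ nl).compl₂ nl).compr₂ (LinearMap.mulRight F N) = 0 := by
      refine bilin_ext fun a b => ?_
      simp only [LinearMap.comp_apply, LinearMap.compl₂_apply, LinearMap.compr₂_apply, hnla, hTa,
        LinearMap.mulRight_apply, LinearMap.zero_apply]
      rw [hN, bs_cz, bs_cz, ← cz_mulVec, ← cz_mulVec, DD_cz, ← NZ_map, ← mm, (base a b).2.2,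
        Matrix.map_zero _ (map_zero _)]
    have := LinearMap.congr_fun₂ h x y
    simpa only [LinearMap.comp_apply, LinearMap.compl₂_apply, LinearMap.compr₂_apply, hnla, hTa,
        LinearMap.mulRight_apply, LinearMap.zero_apply] using this

/-- **equivariance of `DD`, over every field** -/
theorem equi (F : Type u) [Field F] : Equi F := by
  intro g
  let S : Subgroup (Gh F) :=
    { carrier := {g | ∀ x y : D1 → F, DD F (V F g x) (V F g y) * rho F g = rho F g * DD F x y}
      one_mem' := by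
        intro x y
        rw [map_one, map_one, Matrix.one_mul, Matrix.mul_one]
        rfl
      mul_mem' := by
        intro a b ha hb x y
        rw [map_mul, map_mul, Module.End.mul_apply, Module.End.mul_apply, ← Matrix.mul_assoc, ha, Matrix.mul_assoc, hb,
          ← Matrix.mul_assoc]
      inv_mem' := by
        intro a ha x y
        have h1 : rho F a⁻¹ * rho F a = 1 := by rw [← map_mul, inv_mul_cancel, map_one]
        have h2 : rho F a * rho F a⁻¹ = 1 := by rw [← map_mul, mul_inv_cancel, map_one]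
        have h3 := ha (V F a⁻¹ x) (V F a⁻¹ y)
        rw [V_inv', V_inv'] at h3
        calc DD F (V F a⁻¹ x) (V F a⁻¹ y) * rho F a⁻¹
            = rho F a⁻¹ * (rho F a * DD F (V F a⁻¹ x) (V F a⁻¹ y)) * rho F a⁻¹ := by
              rw [← Matrix.mul_assoc, h1, Matrix.one_mul]
          _ = rho F a⁻¹ * DD F x y * (rho F a * rho F a⁻¹) := by rw [← h3]; simp only [Matrix.mul_assoc]
          _ = _ := by rw [h2, Matrix.mul_one] }
  refine mem_of_gens (S := S) (fun r hr t => ?_) g
  intro x y
  obtain ⟨h1, h2, h3⟩ := field_ident (F := F) hr x y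
  rw [V_xs hr, V_xs hr, rho_xs' hr, DD_add_left, DD_add_right, DD_add_right, DD_smul_left, DD_smul_left, DD_smul_right,
    DD_smul_right, Matrix.add_mul (1 : Matrix D1 D1 F), Matrix.one_mul, Matrix.smul_mul t (NM F r) (DD F x y), ← h1]
  have h4 : t ^ 2 • (DD F (NM F r *ᵥ x) (NM F r *ᵥ y) + (DD F (NM F r *ᵥ x) y + DD F x (NM F r *ᵥ y)) * NM F r) = 0 := by
    rw [h2, smul_zero]
  have h5 : t ^ 3 • (DD F (NM F r *ᵥ x) (NM F r *ᵥ y) * NM F r) = 0 := by rw [h3, smul_zero]
  rw [← sub_eq_zero]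
  have h6 : (DD F x y + t • DD F x (NM F r *ᵥ y) + (t • DD F (NM F r *ᵥ x) y + t • t • DD F (NM F r *ᵥ x) (NM F r *ᵥ y))) *
      (1 + t • NM F r) - (DD F x y + t • (DD F (NM F r *ᵥ x) y + DD F x (NM F r *ᵥ y) + DD F x y * NM F r)) =
      t ^ 2 • (DD F (NM F r *ᵥ x) (NM F r *ᵥ y) + (DD F (NM F r *ᵥ x) y + DD F x (NM F r *ᵥ y)) * NM F r) +
      t ^ 3 • (DD F (NM F r *ᵥ x) (NM F r *ᵥ y) * NM F r) := by
    simp only [Matrix.add_mul, Matrix.mul_add, Matrix.mul_one, Matrix.smul_mul, Matrix.mul_smul, smul_add, smul_smul]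
    have e1 : t * t = t ^ 2 := by ring
    have e2 : t * (t * t) = t ^ 3 := by ring
    have e3 : t * t * t = t ^ 3 := by ring
    simp only [e1]
    have e4 : t * t ^ 2 = t ^ 3 := by ring
    have e5 : t ^ 2 * t = t ^ 3 := by ring
    simp only [e4]
    abel
  rw [h6, h4, h5, add_zero]

theorem DD_equi (g : Gh F) (x y : D1 → F) : DD F (V F g x) (V F g y) * rho F g = rho F g * DD F x y := equi F g x y

theorem DD_V (g : Gh F) (x y z : D1 → F) : DD F (V F g x) (V F g y) *ᵥ V F g z = V F g (DD F x y *ᵥ z) := by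
  rw [V_apply g z, V_apply g (DD F x y *ᵥ z), Matrix.mulVec_mulVec, Matrix.mulVec_mulVec, DD_equi]

theorem DD_conj (g : Gh F) (x y : D1 → F) : DD F (V F g x) (V F g y) = rho F g * DD F x y * rho F g⁻¹ := by
  rw [← DD_equi, Matrix.mul_assoc, ← map_mul, mul_inv_cancel, map_one, Matrix.mul_one]

theorem dd_equi (h2 : (2 : F) ≠ 0) (g : Gh F) (x y : D1 → F) : adM F g *ᵥ dd x y = dd (V F g x) (V F g y) := by
  apply del_injective
  have hg' : rho F g * rho F g⁻¹ = 1 := by rw [← map_mul, mul_inv_cancel, map_one]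
  have e1 : del F (adM F g *ᵥ dd x y) = rho F g * del F (dd x y) * rho F g⁻¹ := by
    rw [del_equi h2 g (dd x y), Matrix.mul_assoc, hg', Matrix.mul_one]
  rw [e1, del_dd, del_dd, DD_conj]

theorem dd_L (h2 : (2 : F) ≠ 0) (g : Gh F) (x y : D1 → F) : L F g (dd x y) = dd (V F g x) (V F g y) := by
  rw [L_adM, Matrix.toLin'_apply, dd_equi h2]

theorem del_L (h2 : (2 : F) ≠ 0) (g : Gh F) (z : chevE7.Idx → F) : del F (L F g z) = rho F g * del F z * rho F g⁻¹ := by
  rw [L_adM, Matrix.toLin'_apply, del_equi h2 g z, Matrix.mul_assoc, ← map_mul, mul_inv_cancel, map_one, Matrix.mul_one]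

/-! ### the identity (I) -/

theorem defc_equi (g : Gh F) (x y z : D1 → F) : defc (V F g x) (V F g y) (V F g z) = V F g (defc x y z) := by
  unfold defc
  simp only [DD_V, sf_V, map_sub, map_add, map_smul]

theorem defc_zero (x y z : D1 → F) : defc x y z = 0 := by
  set W : Submodule F (D1 → F) :=
    { carrier := {x | ∀ y z, defc x y z = 0}
      add_mem' := by
        intro a b ha hb y z
        have h1 : defc (a + b) y z = defc a y z + defc b y z := by
          unfold defc
          simp only [DD_add_left, Matrix.add_mulVec, map_add, LinearMap.add_apply, add_smul, smul_add]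
          abel
        rw [h1, ha, hb, add_zero]
      zero_mem' := by
        intro y z
        unfold defc
        rw [DD_zero_left, DD_zero_left]
        simp
      smul_mem' := by
        intro c a ha y z
        have h1 : defc (c • a) y z = c • defc a y z := by
          unfold defc
          simp only [DD_smul_left, Matrix.smul_mulVec, map_smul, LinearMap.smul_apply, smul_eq_mul, smul_sub, smul_add,
            smul_smul]
          congr 2
          congr 2
          ring_nf
        rw [h1, ha, smul_zero] } with hW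
  have hst : ∀ g : Gh F, ∀ w ∈ W, V F g w ∈ W := by
    intro g w hw y z
    have h1 := defc_equi g w (V F g⁻¹ y) (V F g⁻¹ z)
    rw [V_inv', V_inv'] at h1
    rw [h1, hw, map_zero]
  have htop : bs F topv ∈ W := by
    intro y z
    have h1 : ∀ b c : D1, defc (bs F topv) (bs F b) (bs F c) = 0 := fun b c => by
      unfold defc
      rw [ident_top_bs, sub_self]
    have h2 : ∀ b : D1, ∀ z, defc (bs F topv) (bs F b) z = 0 := by
      intro b z
      rw [vec_sum z, defc_sum_right]
      exact Finset.sum_eq_zero fun c _ => by rw [defc_smul_right, h1, smul_zero]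
    rw [defc_swap, vec_sum y, defc_sum_right, neg_eq_zero]
    exact Finset.sum_eq_zero fun c _ => by rw [defc_smul_right, defc_swap, h2, neg_zero, smul_zero]
  have hne : W ≠ ⊥ := by
    intro h
    rw [h, Submodule.mem_bot] at htop
    have := congrFun htop topv
    rw [bs_self] at this
    exact one_ne_zero this
  have := irred hst hne
  have hx : x ∈ W := by rw [this]; trivial
  exact hx y z

/-- **the identity (I), over every field** -/
theorem ident (x y z : D1 → F) : DD F x y *ᵥ z - DD F x z *ᵥ y =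
    (2 * sf F y z) • x + sf F x z • y - sf F x y • z := sub_eq_zero.1 (defc_zero x y z)

end

end Cfsg.Agent.R2.T1.Mu

private theorem dce_ef39118126ad : _root_.True := by
  try have : _root_.True := by simp only [_root_.Cfsg.Agent.R2.T1.Mu.DZ.eq_1]
  try have : _root_.True := by simp only [_root_.Cfsg.Agent.R2.T1.Mu.sz.eq_1]
  exact _root_.True.intro
end

-- part: R2/T1/Mu/Pure
section
set_option linter.all false
open scoped Cfsg.Agent.FastGrp

/-!
# MU27 (S5771): pure vectors and pairs of pure vectors, characteristic not 2 (helper27)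

`Pure F x : DD F x x = 0`.
* `pure_eq` : a pure vector with `x m ≠ 0` and zero coordinates at the neighbours of `m` is a multiple of `bs m`;
* `pure_top` : a non-zero pure vector is conjugate to a multiple of the highest weight vector;
* `pair_symp`, `pair_orth` : normal forms of pairs.
-/

set_option autoImplicit false
set_option maxRecDepth 100000

namespace Cfsg.Agent.R2.T1.Mu

open Cfsg Cfsg.Lie Matrix
open Cfsg.Agent.ChevalleyStructure.RootVec
open Cfsg.Agent.R2.T1 Cfsg.Agent.R2.PX
open Cfsg.Agent.H943.E7V.Block (D1 rho)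

universe u
variable {F : Type u} [Field F]

/-- every weight has a neighbour -/
theorem exists_nb (m : D1) : ∃ c : D1, p2 m c = 1 := by
  by_cases hm : nn m = 238
  · obtain ⟨i, hi, a, c, h, -⟩ := down (b := m) (by rw [hm]; decide)
    exact ⟨a, p2_of_mv (simple_lt7 i hi) h⟩
  · obtain ⟨i, hi, a, c, h, -⟩ := up (b := m) hm
    refine ⟨a, ?_⟩
    rw [p2_comm]
    exact p2_of_mv (simple_lt7 i hi) h

/-- a pure vector with a non-zero coordinate at `m` and zero coordinates at the neighbours is a multiple of the weight vector -/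
theorem pure_eq (h2 : (2 : F) ≠ 0) {m : D1} {x : D1 → F} (hp : Pure F x) (hm : x m ≠ 0)
    (h0 : ∀ n, p2 n m = 1 → x n = 0) : x = x m • bs F m := by
  have key1 : ∀ b, p2 b m = -1 → x b = 0 := by
    intro b hb
    have h1 : p2 m (op b) = 1 := by rw [p2_op', p2_comm, hb]; rfl
    obtain ⟨r, hr, c, h, hc⟩ := exists_mv h1
    have hr' : 125 - r < 126 := by omega
    have hinv : mv (125 - r) (nn m) = some (nn (op b), c) := by
      rcases mv_spec hr (op b) with h4 | ⟨a', c', h4, -, -, h5⟩
      · rw [h4] at h; exact absurd h (by simp)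
      · rw [h4, Option.some.injEq, Prod.mk.injEq] at h
        rw [← nn_inj h.1, ← h.2]
        exact h5
    have e1 := Tr.DD_entry (F := F) hr h x x
    have hpp : DD F x x = 0 := hp
    rw [hpp, Matrix.zero_apply] at e1
    have e2 : sf F (NM F (125 - r) *ᵥ x) x = 0 := by
      have h4 : (-2 : F) ≠ 0 := neg_ne_zero.2 h2
      exact (mul_eq_zero.1 ((mul_eq_zero.1 e1.symm).resolve_left h4)).resolve_right (cast_ne hc)
    have hop := mv_op hr' hinv
    rw [op_op, ep_op] at hop
    have hbm : b ≠ m := by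
      rintro rfl
      rw [p2_self] at hb
      omega
    rw [sf_sum, Fintype.sum_eq_add (op b) (op m)] at e2
    · rw [NM_mulVec hr' hinv, NM_mulVec hr' hop, op_op, op_op, ep_op, ep_op] at e2
      push_cast at e2
      have h5 : (ep m : F) * (ep m : F) = 1 := by
        rw [← Int.cast_mul, ep_sq, Int.cast_one]
      have h6 : (2 * (c : F) * (ep b : F) * x m) * x b = 0 := by
        linear_combination -e2 - (c : F) * (ep b : F) * x b * x m * h5
      exact (mul_eq_zero.1 h6).resolve_left
        (mul_ne_zero (mul_ne_zero (mul_ne_zero h2 (cast_ne hc)) (cast_ne (ep_sq b))) hm)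
    · intro h4
      have h5 := congrArg op h4
      rw [op_op, op_op] at h5
      exact hbm h5
    · intro a ha
      by_contra hne
      have ha1 : (NM F (125 - r) *ᵥ x) a ≠ 0 := left_ne_zero_of_mul hne
      obtain ⟨b', c', h4, h5⟩ := NM_mulVec_ne ha1
      have h6 := Tr.grade hr' hinv h4
      rcases p2_cases b' m with h7 | h7 | h7 | h7
      · have h8 := p2_eq_three.1 h7
        rw [h8, hinv, Option.some.injEq, Prod.mk.injEq] at h4
        exact ha.1 (nn_inj h4.1).symm
      · exact h5 (h0 b' h7)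
      · have h8 : p2 m a = -3 := by rw [p2_comm]; omega
        exact ha.2 (p2_eq_neg_three.1 h8)
      · rcases p2_cases a m with h8 | h8 | h8 | h8 <;> omega
  have key2 : x (op m) = 0 := by
    obtain ⟨c, hc⟩ := exists_nb m
    have e1 := Tr.DD_diag (F := F) x x c
    have hpp : DD F x x = 0 := hp
    rw [hpp, Matrix.zero_apply, Fintype.sum_eq_add m (op m) (ne_op m)] at e1
    · rw [op_op, ep_op, p2_op, hc] at e1
      push_cast at e1
      have h6 : (2 * (ep m : F) * x m) * x (op m) = 0 := by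
        linear_combination e1
      exact (mul_eq_zero.1 h6).resolve_left (mul_ne_zero (mul_ne_zero h2 (cast_ne (ep_sq m))) hm)
    · intro a ha
      by_contra hne
      have ha1 : x a ≠ 0 := left_ne_zero_of_mul (left_ne_zero_of_mul (left_ne_zero_of_mul hne))
      rcases p2_cases a m with h8 | h8 | h8 | h8
      · exact ha.1 (p2_eq_three.1 h8)
      · exact ha1 (h0 a h8)
      · exact ha1 (key1 a h8)
      · rw [p2_comm] at h8
        exact ha.2 (p2_eq_neg_three.1 h8)
  funext a
  rw [Pi.smul_apply, smul_eq_mul]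
  by_cases ha : a = m
  · rw [ha, bs_self, mul_one]
  · rw [PX.bs_ne ha, mul_zero]
    rcases p2_cases a m with h8 | h8 | h8 | h8
    · exact absurd (p2_eq_three.1 h8) ha
    · exact h0 a h8
    · exact key1 a h8
    · rw [p2_comm] at h8
      rw [p2_eq_neg_three.1 h8]
      exact key2

theorem pure_V {x : D1 → F} (hp : Pure F x) (g : Gh F) : Pure F (V F g x) := Tr.pure_V (equi F) hp g

theorem pure_V_iff {x : D1 → F} (g : Gh F) : Pure F (V F g x) ↔ Pure F x := Tr.DD_V (equi F) g

theorem pure_zero : Pure F (0 : D1 → F) := DD_zero_left 0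

theorem pure_smul {x : D1 → F} (hp : Pure F x) (c : F) : Pure F (c • x) := by
  show DD F (c • x) (c • x) = 0
  rw [DD_smul_left, DD_smul_right, show DD F x x = 0 from hp, smul_zero, smul_zero]

theorem DD_V_iff {x y : D1 → F} (g : Gh F) : DD F (V F g x) (V F g y) = 0 ↔ DD F x y = 0 := Tr.DD_V (equi F) g

/-- a non-zero pure vector is conjugate to a multiple of the highest weight vector -/
theorem pure_top (h2 : (2 : F) ≠ 0) {x : D1 → F} (hp : Pure F x) (hx : x ≠ 0) :
    ∃ (g : Gh F) (c : F), c ≠ 0 ∧ V F g x = c • bs F topv := by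
  classical
  obtain ⟨g, hg⟩ := Tr.exists_coord hx topv
  obtain ⟨g', -, h4, h5, -⟩ := Tr.clear ⊤ topv hg (Finset.univ.filter fun n => p2 n topv = 1)
    (fun n hn => ⟨(Finset.mem_filter.1 hn).2, fun _ _ _ _ _ => Subgroup.mem_top _⟩)
  refine ⟨g' * g, V F (g' * g) x topv, ?_, ?_⟩
  · rw [map_mul, Module.End.mul_apply, h4]
    exact hg
  · refine pure_eq h2 (pure_V hp _) ?_ fun n hn => ?_
    · rw [map_mul, Module.End.mul_apply, h4]
      exact hg
    · rw [map_mul, Module.End.mul_apply]
      exact h5 n (Finset.mem_filter.2 ⟨Finset.mem_univ _, hn⟩)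

/-- the values of `DD` with the highest weight vector -/
theorem top_zero (h2 : (2 : F) ≠ 0) {y : D1 → F} (h : DD F (bs F topv) y = 0) :
    (∀ b, p2 b topv = -1 → y b = 0) ∧ y (op topv) = 0 := by
  constructor
  · intro b hb
    have h1 : p2 topv (op b) = 1 := by rw [p2_op', p2_comm, hb]; rfl
    obtain ⟨r, hr, c, h4, hc⟩ := exists_mv h1
    have hr' : 125 - r < 126 := by omega
    have hinv : mv (125 - r) (nn topv) = some (nn (op b), c) := by
      rcases mv_spec hr (op b) with h5 | ⟨a', c', h5, -, -, h6⟩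
      · rw [h5] at h4; exact absurd h4 (by simp)
      · rw [h5, Option.some.injEq, Prod.mk.injEq] at h4
        rw [← nn_inj h4.1, ← h4.2]
        exact h6
    have e1 := Tr.DD_entry (F := F) hr h4 (bs F topv) y
    have e2 := NM_bs_some (F := F) hinv
    rw [h, Matrix.zero_apply, e2, map_smul, LinearMap.smul_apply, sf_single, op_op, smul_eq_mul] at e1
    have e3 : (-2 * ((c : F) * ((ep (op b) : ℤ) : F)) * (c : F)) * y b = 0 := by linear_combination -e1
    exact (mul_eq_zero.1 e3).resolve_left (mul_ne_zero (mul_ne_zero (neg_ne_zero.2 h2) (mul_ne_zero (cast_ne hc)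
      (cast_ne (ep_sq _)))) (cast_ne hc))
  · obtain ⟨c, hc⟩ := exists_nb topv
    have e1 := Tr.DD_diag (F := F) (bs F topv) y c
    rw [h, Matrix.zero_apply, Finset.sum_eq_single topv] at e1
    · rw [bs_self, hc] at e1
      push_cast at e1
      have e3 : (((ep topv : ℤ) : F)) * y (op topv) = 0 := by linear_combination e1
      exact (mul_eq_zero.1 e3).resolve_left (cast_ne (ep_sq _))
    · intro a _ ha
      rw [PX.bs_ne ha]
      ring
    · intro h4
      exact absurd (Finset.mem_univ _) h4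

theorem inv_V (g : Gh F) (v : D1 → F) : V F g⁻¹ (V F g v) = v := by
  rw [← Module.End.mul_apply, ← map_mul, inv_mul_cancel, map_one]
  rfl

/-- **symplectic pairs** -/
theorem pair_symp (h2 : (2 : F) ≠ 0) {x y : D1 → F} (hx : Pure F x) (hy : Pure F y) (hxy : sf F x y = 0)
    (hD : DD F x y ≠ 0) : ∃ (g : Gh F) (c d : F), c ≠ 0 ∧ d ≠ 0 ∧ V F g x = c • bs F topv ∧ V F g y = d • bs F w1 := by
  classical
  have hx0 : x ≠ 0 := by
    rintro rfl
    exact hD (DD_zero_left y)
  obtain ⟨g1, c, hc, e1⟩ := pure_top h2 hx hx0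
  have e2 : V F g1 y (op topv) = 0 := by
    have h4 := sf_V g1 x y
    rw [e1, hxy, map_smul, LinearMap.smul_apply, Tr.sf_top, smul_eq_mul] at h4
    exact (mul_eq_zero.1 ((mul_eq_zero.1 h4).resolve_left hc)).resolve_left (cast_ne (ep_sq _))
  have e3 : DD F (bs F topv) (V F g1 y) ≠ 0 := by
    intro h4
    apply hD
    rw [← DD_V_iff g1, e1, DD_smul_left, h4, smul_zero]
  obtain ⟨b, hb, hb'⟩ : ∃ b, p2 b topv = -1 ∧ V F g1 y b ≠ 0 := by
    by_contra hcon
    push Not at hcon
    exact e3 (Tr.DD_top_zero hcon e2)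
  obtain ⟨g2, hg2, e4⟩ := Tr.move Tr.p2_w1 Tr.chkW1 hb hb'
  have e5 := Tr.sym_zero (equi F) hg2 e2
  obtain ⟨g3, hg3, e6, e7, -⟩ := Tr.clear (Tr.P F) w1 e4 (Finset.univ.filter fun n => p2 n w1 = 1 ∧ n ≠ op topv) (by
    intro n hn
    obtain ⟨-, hn1, hn2⟩ := Finset.mem_filter.1 hn
    refine ⟨hn1, fun r hr c' hm t => Tr.xs_mem hr (fun h4 => hn2 ?_) t⟩
    have h5 := p2_add hr hm topv
    rw [Tr.p2_w1, h4] at h5
    rw [p2_comm] at h5
    exact p2_eq_neg_three.1 (by omega))
  have e8 := Tr.sym_zero (equi F) hg3 e5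
  refine ⟨g3 * (g2 * g1), c, V F g3 (V F g2 (V F g1 y)) w1, hc, ?_, ?_, ?_⟩
  · rw [e6]
    exact e4
  · rw [map_mul, map_mul, Module.End.mul_apply, Module.End.mul_apply, e1, map_smul, map_smul, Tr.mem_P.1 hg2,
      Tr.mem_P.1 hg3]
  · rw [map_mul, map_mul, Module.End.mul_apply, Module.End.mul_apply]
    refine pure_eq h2 (pure_V (pure_V (pure_V hy _) _) _) (by rw [e6]; exact e4) fun n hn => ?_
    by_cases hn' : n = op topv
    · rw [hn']; exact e8
    · exact e7 n (Finset.mem_filter.2 ⟨Finset.mem_univ _, hn, hn'⟩)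

end Cfsg.Agent.R2.T1.Mu
end

-- part: R2/T1/Mu/Root
section
prune_inst 0x1000040002200000000008003002000480000900003000080400f060a00e04200010640280014108098248068080000000001200028000000000000000000001800000030000000000080000000000000000000000000000000000000000004000000000
set_option linter.all false
open scoped Cfsg.Agent.FastGrp

/-!
# MU27 (S5771): root elements of the Lie algebra as `DD x y` of a symplectic pure pair (helper27)

* `IsRt m` : `m = k • g N_r g⁻¹`;
* `IsRt.sq`, `IsRt.exp`, `IsRt.pair` (`DD z z' ∈ F m` for `z, z'` in the image of `m`);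
* `IsRt.of_pair` : `DD F x y` for `x, y` pure, `sf x y = 0`, `DD x y ≠ 0`; `x`, `y` are in the image of `DD x y`;
* `DD_emb`, `sf_emb`, `exp_desc`.
-/

set_option autoImplicit false
set_option maxRecDepth 100000

namespace Cfsg.Agent.R2.T1.Mu

open Cfsg Cfsg.Lie Matrix Module
open Cfsg.Agent.ChevalleyStructure.RootVec
open Cfsg.Agent.R2.T1 Cfsg.Agent.R2.PX
open Cfsg.Agent.H943.E7V.Block (D1 rho)

universe u v
section
variable {F : Type u} [Field F]

/-! ### combinatorics of a root -/

theorem pr_of_mv {r : ℕ} (hr : r < 126) {a b : D1} {c : ℤ} (h : mv r (nn b) = some (nn a, c)) :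
    Comb.pr r a = 1 ∧ Comb.pr r b = -1 := by
  have h1 := p2_add hr h a
  have h2 := p2_add hr h b
  have h3 := p2_of_mv hr h
  rw [p2_self] at h1 h2
  rw [p2_comm b a, h3] at h1
  rw [h3] at h2
  constructor <;> omega

/-- the values of `DD` on two weight vectors in the image of `N_r` -/
theorem DD_im {r : ℕ} (hr : r < 126) {a a' b b' : D1} {c c' : ℤ} (h : mv r (nn b) = some (nn a, c))
    (h' : mv r (nn b') = some (nn a', c')) : ∃ k : F, DD F (bs F a) (bs F a') = k • NM F r := by
  have hp := pr_of_mv hr h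
  have hp' := pr_of_mv hr h'
  -- `r` moves `op a'`
  have hop := mv_op hr h'
  have hpo := pr_of_mv hr hop
  by_cases h0 : a' = op a
  · exfalso
    rw [h0, op_op] at hpo
    rw [hpo.2] at hp
    omega
  by_cases h1 : ∃ s < 126, ∃ e, mv s (nn a) = some (nn (op a'), e)
  · obtain ⟨s, hs, e, he⟩ := h1
    -- then `125 - s` moves `op a'` to `a`
    have hs' : 125 - s < 126 := by omega
    have hinv : mv (125 - s) (nn (op a')) = some (nn a, e) := by
      rcases mv_spec hs a with h5 | ⟨x, y, h5, -, -, h6⟩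
      · rw [h5] at he; exact absurd he (by simp)
      · rw [h5, Option.some.injEq, Prod.mk.injEq] at he
        rw [← nn_inj he.1, ← he.2]
        exact h6
    have h2 := p2_add hr hop a
    rw [hp.1] at h2
    have h3 := p2_of_mv hs' hinv
    rw [p2_comm] at h3
    rw [h3] at h2
    have h4 : op b' = a := p2_eq_three.1 (by omega)
    rw [h4] at hop
    have h5 : 125 - s = r := mv_unique hs' hr hinv hop
    have h6 := Tr.DD_bs (F := F) hr hop
    rw [op_op] at h6
    exact ⟨_, h6⟩
  · refine ⟨0, ?_⟩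
    rw [zero_smul]
    exact DD_bs_zero h0 fun s hs e he => h1 ⟨s, hs, e, he⟩

theorem NM_bs_im {r : ℕ} (hr : r < 126) (b : D1) : NM F r *ᵥ bs F b = 0 ∨ ∃ (a : D1) (c : ℤ), mv r (nn b) = some (nn a, c) ∧
    c * c = 1 ∧ NM F r *ᵥ bs F b = (c : F) • bs F a := by
  rcases mv_spec hr b with h | ⟨a, c, h, hc, -, -⟩
  · exact Or.inl (NM_bs_none h)
  · exact Or.inr ⟨a, c, h, hc, NM_bs_some h⟩

/-- the values of `DD` on the image of `N_r` -/
theorem DD_NM {r : ℕ} (hr : r < 126) (u v : D1 → F) : ∃ k : F, DD F (NM F r *ᵥ u) (NM F r *ᵥ v) = k • NM F r := by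
  have h1 : ∀ a b : D1, DD F (NM F r *ᵥ bs F a) (NM F r *ᵥ bs F b) ∈ Submodule.span F {NM F r} := by
    intro a b
    rcases NM_bs_im (F := F) hr a with h | ⟨a', c, h, -, h'⟩
    · rw [h, DD_zero_left]; exact Submodule.zero_mem _
    · rcases NM_bs_im (F := F) hr b with g | ⟨b', d, g, -, g'⟩
      · rw [g, DD_zero_right]; exact Submodule.zero_mem _
      · rw [h', g', DD_smul_left, DD_smul_right]
        obtain ⟨k, hk⟩ := DD_im (F := F) hr h g
        rw [hk]
        exact Submodule.smul_mem _ _ (Submodule.smul_mem _ _ (Submodule.smul_mem _ _ (Submodule.subset_span rfl)))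
  have h2 : DD F (NM F r *ᵥ u) (NM F r *ᵥ v) ∈ Submodule.span F {NM F r} := by
    rw [vec_sum u, vec_sum v, Matrix.mulVec_sum, Matrix.mulVec_sum, DD_sum_left]
    refine Submodule.sum_mem _ fun a _ => ?_
    rw [DD_sum_right]
    refine Submodule.sum_mem _ fun b _ => ?_
    rw [Matrix.mulVec_smul, Matrix.mulVec_smul, DD_smul_left, DD_smul_right]
    exact Submodule.smul_mem _ _ (Submodule.smul_mem _ _ (h1 a b))
  obtain ⟨k, hk⟩ := Submodule.mem_span_singleton.1 h2
  exact ⟨k, hk.symm⟩

/-! ### root elements -/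

/-- multiples of the conjugates of the root vectors -/
def IsRt (m : Matrix D1 D1 F) : Prop := ∃ (g : Gh F) (r : ℕ) (k : F), r < 126 ∧ k ≠ 0 ∧
  m = k • (rho F g * NM F r * rho F g⁻¹)

theorem rho_mul_inv' (g : Gh F) : rho F g * rho F g⁻¹ = 1 := by rw [← map_mul, mul_inv_cancel, map_one]
theorem rho_inv_mul' (g : Gh F) : rho F g⁻¹ * rho F g = 1 := by rw [← map_mul, inv_mul_cancel, map_one]

theorem IsRt.of_NM {r : ℕ} (hr : r < 126) : IsRt (NM F r) :=
  ⟨1, r, 1, hr, one_ne_zero, by rw [inv_one, map_one, Matrix.one_mul, Matrix.mul_one, one_smul]⟩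

theorem IsRt.smul {m : Matrix D1 D1 F} (h : IsRt m) {c : F} (hc : c ≠ 0) : IsRt (c • m) := by
  obtain ⟨g, r, k, hr, hk, rfl⟩ := h
  exact ⟨g, r, c * k, hr, mul_ne_zero hc hk, by rw [smul_smul]⟩

theorem IsRt.conj {m : Matrix D1 D1 F} (h : IsRt m) (g : Gh F) : IsRt (rho F g * m * rho F g⁻¹) := by
  obtain ⟨h, r, k, hr, hk, rfl⟩ := h
  refine ⟨g * h, r, k, hr, hk, ?_⟩
  rw [map_mul, _root_.mul_inv_rev, map_mul, Matrix.mul_smul, Matrix.smul_mul]
  simp only [Matrix.mul_assoc]

theorem IsRt.ne {m : Matrix D1 D1 F} (h : IsRt m) : m ≠ 0 := by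
  obtain ⟨g, r, k, hr, hk, rfl⟩ := h
  intro h0
  have h1 := (smul_eq_zero.1 h0).resolve_left hk
  obtain ⟨a, b, c, hm, hc⟩ := Tr.exists_entry hr
  apply Tr.NM_ne (F := F) hm hc
  calc NM F r = rho F g⁻¹ * (rho F g * NM F r * rho F g⁻¹) * rho F g := by
        rw [Matrix.mul_assoc, Matrix.mul_assoc, rho_inv_mul', Matrix.mul_one, ← Matrix.mul_assoc, rho_inv_mul',
          Matrix.one_mul]
    _ = 0 := by rw [h1, Matrix.mul_zero, Matrix.zero_mul]

theorem IsRt.sq {m : Matrix D1 D1 F} (h : IsRt m) : m * m = 0 := by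
  obtain ⟨g, r, k, hr, hk, rfl⟩ := h
  rw [Matrix.smul_mul, Matrix.mul_smul]
  have : rho F g * NM F r * rho F g⁻¹ * (rho F g * NM F r * rho F g⁻¹) = 0 := by
    calc rho F g * NM F r * rho F g⁻¹ * (rho F g * NM F r * rho F g⁻¹)
        = rho F g * NM F r * (rho F g⁻¹ * rho F g) * (NM F r * rho F g⁻¹) := by simp only [Matrix.mul_assoc]
      _ = rho F g * (NM F r * NM F r) * rho F g⁻¹ := by
        rw [rho_inv_mul', Matrix.mul_one]; simp only [Matrix.mul_assoc]
      _ = 0 := by rw [NM_mul_self hr, Matrix.mul_zero, Matrix.zero_mul]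
  rw [this, smul_zero, smul_zero]

/-- `1 + t m` is in the image of the group -/
theorem IsRt.exp {m : Matrix D1 D1 F} (h : IsRt m) (t : F) : ∃ z : Gh F, rho F z = 1 + t • m := by
  obtain ⟨g, r, k, hr, hk, rfl⟩ := h
  refine ⟨g * xs F r (t * k) * g⁻¹, ?_⟩
  rw [map_mul, map_mul, rho_xs' hr, Matrix.mul_add, Matrix.mul_one, Matrix.add_mul, rho_mul_inv', smul_smul,
    Matrix.mul_smul, Matrix.smul_mul]

/-- `DD` on the image of a root element -/
theorem IsRt.pair {m : Matrix D1 D1 F} (h : IsRt m) (u v : D1 → F) : ∃ k : F, DD F (m *ᵥ u) (m *ᵥ v) = k • m := by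
  obtain ⟨g, r, k, hr, hk, rfl⟩ := h
  have e : ∀ u : D1 → F, (k • (rho F g * NM F r * rho F g⁻¹)) *ᵥ u = V F g (NM F r *ᵥ (k • V F g⁻¹ u)) := by
    intro u
    rw [Matrix.smul_mulVec, ← Matrix.mulVec_mulVec, ← Matrix.mulVec_mulVec, Matrix.mulVec_smul, map_smul]
    rfl
  obtain ⟨l, hl⟩ := DD_NM (F := F) hr (k • V F g⁻¹ u) (k • V F g⁻¹ v)
  refine ⟨l / k, ?_⟩
  rw [e, e, DD_conj, hl, smul_smul, div_mul_cancel₀ _ hk, Matrix.mul_smul, Matrix.smul_mul]

theorem op_w1_mv : ∃ r < 126, ∃ c : ℤ, mv r (nn (op w1)) = some (nn topv, c) ∧ c * c = 1 :=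
  exists_mv (by rw [p2_op', p2_comm, Tr.p2_w1]; rfl)

/-- **`DD x y` of a symplectic pure pair** -/
theorem IsRt.of_pair (h2 : (2 : F) ≠ 0) {x y : D1 → F} (hx : Pure F x) (hy : Pure F y) (hxy : sf F x y = 0)
    (hD : DD F x y ≠ 0) : IsRt (DD F x y) ∧ (∃ u, x = DD F x y *ᵥ u) ∧ ∃ u, y = DD F x y *ᵥ u := by
  obtain ⟨g, c, d, hc, hd, e1, e2⟩ := pair_symp h2 hx hy hxy hD
  obtain ⟨r, hr, e, he, hee⟩ := op_w1_mv
  have h3 := Tr.DD_bs (F := F) hr he
  rw [op_op] at h3
  set k : F := -2 * ((e : F) * ((ep (op w1) : ℤ) : F)) with hk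
  have hk0 : k ≠ 0 := mul_ne_zero (neg_ne_zero.2 h2) (mul_ne_zero (cast_ne hee) (cast_ne (ep_sq _)))
  have h4 : DD F (V F g x) (V F g y) = (c * d * k) • NM F r := by
    rw [e1, e2, DD_smul_left, DD_smul_right, h3, smul_smul, smul_smul, mul_assoc]
  have hcd : c * d * k ≠ 0 := mul_ne_zero (mul_ne_zero hc hd) hk0
  have h5 : DD F x y = (c * d * k) • (rho F g⁻¹ * NM F r * rho F (g⁻¹)⁻¹) := by
    have h6 := DD_conj g⁻¹ (V F g x) (V F g y)
    rw [inv_V, inv_V, h4, Matrix.mul_smul, Matrix.smul_mul] at h6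
    exact h6
  have h6 : ∀ w u : D1 → F, V F g w = NM F r *ᵥ u → w = DD F x y *ᵥ ((c * d * k)⁻¹ • V F g⁻¹ u) := by
    intro w u h
    rw [h5, inv_inv, Matrix.smul_mulVec, Matrix.mulVec_smul, smul_smul, mul_inv_cancel₀ hcd, one_smul,
      ← Matrix.mulVec_mulVec, ← Matrix.mulVec_mulVec]
    have h7 : rho F g *ᵥ (V F g⁻¹ u) = u := by
      show V F g (V F g⁻¹ u) = u
      rw [← Module.End.mul_apply, ← map_mul, mul_inv_cancel, map_one]; rfl
    rw [h7, ← h]
    exact (inv_V g w).symm
  refine ⟨⟨g⁻¹, r, c * d * k, hr, hcd, h5⟩, ⟨_, h6 x ((c * (e : F)⁻¹) • bs F (op w1)) ?_⟩,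
    ⟨_, h6 y ((d * ((-(e * ep topv * ep (op w1)) : ℤ) : F)⁻¹) • bs F (op topv)) ?_⟩⟩
  · rw [e1, Matrix.mulVec_smul, NM_bs_some he, smul_smul, mul_assoc, inv_mul_cancel₀ (cast_ne hee), mul_one]
  · have h8 := mv_op hr he
    rw [op_op] at h8
    have h9 : (-(e * ep topv * ep (op w1))) * (-(e * ep topv * ep (op w1))) = 1 := by
      have := ep_sq topv
      have := ep_sq (op w1)
      calc (-(e * ep topv * ep (op w1))) * (-(e * ep topv * ep (op w1)))
          = (e * e) * (ep topv * ep topv) * (ep (op w1) * ep (op w1)) := by ring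
        _ = 1 := by rw [hee, ep_sq, ep_sq]; rfl
    rw [e2, Matrix.mulVec_smul, NM_bs_some h8, smul_smul, mul_assoc, inv_mul_cancel₀ (cast_ne h9), mul_one]

/-- root elements have rank 12: the image is spanned by 12 weight vectors; `Pure` on it -/
theorem IsRt.pure {m : Matrix D1 D1 F} (h : IsRt m) : ∃ x y : D1 → F, Pure F x ∧ Pure F y ∧ sf F x y = 0 ∧
    ((2 : F) ≠ 0 → ∃ k : F, k ≠ 0 ∧ DD F x y = k • m) := by
  obtain ⟨g, r, k, hr, hk, rfl⟩ := h
  obtain ⟨a, b, c, hm, hc⟩ := Tr.exists_entry hr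
  refine ⟨V F g (bs F a), V F g (bs F (op b)), pure_V (Tr.bs_pure a) g, pure_V (Tr.bs_pure (op b)) g, ?_, ?_⟩
  · rw [sf_V, sf_bs_bs, if_neg]
    intro h
    have h1 := congrArg op h
    rw [op_op, op_op] at h1
    have h3 := p2_of_mv hr hm
    rw [← h1, p2_self] at h3
    omega
  · intro h2
    have h3 := Tr.DD_bs (F := F) hr hm
    refine ⟨(-2 * ((c : F) * ((ep b : ℤ) : F))) / k, div_ne_zero (mul_ne_zero (neg_ne_zero.2 h2)
      (mul_ne_zero (cast_ne hc) (cast_ne (ep_sq _)))) hk, ?_⟩
    rw [DD_conj, h3, Matrix.mul_smul, Matrix.smul_mul, smul_smul, div_mul_cancel₀ _ hk]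

end

/-! ### extension of scalars -/

section
variable {F : Type u} {K : Type v} [Field F] [Field K] (f : F →+* K)

theorem NM_map (r : ℕ) : (NM F r).map f = NM K r := by
  ext a b
  rw [Matrix.map_apply]
  show f ((nz r a b : ℤ) : F) = ((nz r a b : ℤ) : K)
  rw [map_intCast]

theorem NM_emb (r : ℕ) (x : D1 → F) : NM K r *ᵥ (fun i => f (x i)) = fun i => f ((NM F r *ᵥ x) i) := by
  funext a
  rw [← NM_map f, Matrix.mulVec, Matrix.mulVec, dotProduct, dotProduct, map_sum]
  exact Finset.sum_congr rfl fun b _ => by rw [Matrix.map_apply, map_mul]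

theorem sf_emb (x y : D1 → F) : sf K (fun i => f (x i)) (fun i => f (y i)) = f (sf F x y) := by
  rw [sf_sum, sf_sum, map_sum]
  exact Finset.sum_congr rfl fun a _ => by rw [map_mul, map_mul, map_intCast]

theorem DD_emb (x y : D1 → F) : DD K (fun i => f (x i)) (fun i => f (y i)) = (DD F x y).map f := by
  ext b c
  rw [DD_eq, Matrix.map_apply, DD_eq, Matrix.sub_apply, Matrix.sub_apply, map_sub]
  congr 1
  · rw [Matrix.smul_apply, Matrix.smul_apply, smul_eq_mul, smul_eq_mul, map_mul, Matrix.sum_apply, Matrix.sum_apply,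
      map_sum]
    congr 1
    · rw [map_neg]; congr 1; exact (map_ofNat f 2).symm
    · refine Finset.sum_congr rfl fun r _ => ?_
      rw [Matrix.smul_apply, Matrix.smul_apply, smul_eq_mul, smul_eq_mul, map_mul, NM_emb, sf_emb, ← NM_map f,
        Matrix.map_apply]
  · by_cases hbc : b = c
    · rw [hbc, Matrix.diagonal_apply_eq, Matrix.diagonal_apply_eq, map_sum]
      refine Finset.sum_congr rfl fun a _ => ?_
      rw [map_mul, map_mul, map_mul, map_intCast, map_intCast]
    · rw [Matrix.diagonal_apply_ne _ hbc, Matrix.diagonal_apply_ne _ hbc, map_zero]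

end

section
variable {F : Type u} {K : Type u} [Field F] [Field K] (f : F →+* K)

/-- a rational root element of the extension exponentiates to rational elements -/
theorem exp_desc [IsAlgClosed K] [Finite F] {m : Matrix D1 D1 F} (hm : IsRt (m.map f)) (t : F) :
    ∃ z : Gh F, rho F z = 1 + t • m := by
  obtain ⟨z, hz⟩ := hm.exp (f t)
  have h : rho K z = (1 + t • m).map f := by
    rw [hz]
    ext a b
    rw [Matrix.map_apply, Matrix.add_apply, Matrix.add_apply, map_add, Matrix.smul_apply, Matrix.smul_apply,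
      Matrix.map_apply, smul_eq_mul, smul_eq_mul, map_mul]
    congr 1
    rw [Matrix.one_apply, Matrix.one_apply]
    split_ifs <;> simp
  obtain ⟨z0, -, h0⟩ := exists_of_rho f h
  exact ⟨z0, h0⟩

end

end Cfsg.Agent.R2.T1.Mu
end

-- part: R2/T1/P3/Q3
section
prune_inst 0x40000000000000000000000000400000000000000000000000000000404200000040300000100080080040000000000000200020000000000400000000001880000020000000020086000000000000000000000000000000000000000000000000000
set_option linter.all false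
open scoped Cfsg.Agent.FastGrp

-- part: R2/T1/P3/Q2
section
/-!
# S5771, box P3, step Q2: a totally pure seven-dimensional subspace (helper3)

* `TP K v` : eight vectors with sum 0, permuted by the even permutations, pairwise orthogonal, such that the sum of
  four of them is pure;
* `TP.zero : DD K (v i) (v j) = 0` (`2 ≠ 0` in `K`).
-/

set_option autoImplicit false

namespace Cfsg.Agent.R2.T1.P3

open Cfsg Cfsg.Lie Module Matrix
open Cfsg.Agent.R2.T1 Cfsg.Agent.R2.T1.Mu Cfsg.Agent.R2.PX
open Cfsg.Agent.H943.E7V.Block (D1 rho)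
open Equiv

universe u

/-- the hypotheses -/
structure TP (K : Type u) [Field K] (v : Fin 8 → D1 → K) : Prop where
  act : ∀ π : Perm (Fin 8), Perm.sign π = 1 → ∃ g : Gh K, ∀ i, V K g (v i) = v (π i)
  sum : ∑ i, v i = 0
  iso : ∀ i j, sf K (v i) (v j) = 0
  pure : _root_.Cfsg.Agent.R2.PX.Pure K (v 0 + v 1 + v 2 + v 3)

/-- an even permutation with six prescribed values -/
theorem even6 {a b c d e f : Fin 8} (nd : [a, b, c, d, e, f].Nodup) :
    ∃ π : Perm (Fin 8), Perm.sign π = 1 ∧ π 0 = a ∧ π 1 = b ∧ π 2 = c ∧ π 3 = d ∧ π 4 = e ∧ π 5 = f := by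
  obtain ⟨p, q, nd8⟩ := PX.W.ext6 nd
  obtain ⟨s, e0, e1, e2, e3, e4, e5, e6, e7⟩ := PX.W.exists_perm8 nd8
  rcases Int.units_eq_one_or (Perm.sign s) with h | h
  · exact ⟨s, h, e0, e1, e2, e3, e4, e5⟩
  · refine ⟨s * swap 6 7, by rw [Perm.sign_mul, h, Perm.sign_swap (by decide)]; rfl, ?_, ?_, ?_, ?_, ?_, ?_⟩
    · rw [Perm.mul_apply, swap_apply_of_ne_of_ne (by decide) (by decide), e0]
    · rw [Perm.mul_apply, swap_apply_of_ne_of_ne (by decide) (by decide), e1]
    · rw [Perm.mul_apply, swap_apply_of_ne_of_ne (by decide) (by decide), e2]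
    · rw [Perm.mul_apply, swap_apply_of_ne_of_ne (by decide) (by decide), e3]
    · rw [Perm.mul_apply, swap_apply_of_ne_of_ne (by decide) (by decide), e4]
    · rw [Perm.mul_apply, swap_apply_of_ne_of_ne (by decide) (by decide), e5]

theorem even4 {a b c d : Fin 8} (nd : [a, b, c, d].Nodup) :
    ∃ π : Perm (Fin 8), Perm.sign π = 1 ∧ π 0 = a ∧ π 1 = b ∧ π 2 = c ∧ π 3 = d := by
  obtain ⟨n, o, p, q, nd8⟩ := PX.W.ext4 nd
  have nd6 : [a, b, c, d, n, o].Nodup := by
    have h : [a, b, c, d, n, o].Sublist [a, b, c, d, n, o, p, q] := by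
      rw [show [a, b, c, d, n, o, p, q] = [a, b, c, d, n, o] ++ [p, q] from rfl]
      exact List.sublist_append_left _ _
    exact nd8.sublist h
  obtain ⟨π, h, h0, h1, h2, h3, -, -⟩ := even6 nd6
  exact ⟨π, h, h0, h1, h2, h3⟩

namespace TP

variable {K : Type u} [Field K] {v : Fin 8 → D1 → K}

/-- the element `r_ij` -/
noncomputable def r (v : Fin 8 → D1 → K) (i j : Fin 8) : Matrix D1 D1 K := DD K (v j - v i) (v j - v i)

theorem DD_conj' (g : Gh K) (x y : D1 → K) : DD K (V K g x) (V K g y) * rho K g = rho K g * DD K x y := equi K g x y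

theorem pure4 (h : TP K v) {a b c d : Fin 8} (nd : [a, b, c, d].Nodup) : _root_.Cfsg.Agent.R2.PX.Pure K (v a + v b + v c + v d) := by
  obtain ⟨π, hs, h0, h1, h2, h3⟩ := even4 nd
  obtain ⟨g, hg⟩ := h.act π hs
  have h4 := pure_V h.pure g
  rwa [map_add, map_add, map_add, hg, hg, hg, hg, h0, h1, h2, h3] at h4

/-- `r` is equivariant -/
theorem r_conj {π : Perm (Fin 8)} {g : Gh K} (hg : ∀ i, V K g (v i) = v (π i)) (i j : Fin 8) :
    r v (π i) (π j) * rho K g = rho K g * r v i j := by
  rw [r, r, ← hg, ← hg, ← map_sub, DD_conj']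

theorem pure_add {x y : D1 → K} (hx : PX.Pure K x) (hxy : PX.Pure K (x + y)) : (2 : K) • DD K x y = - DD K y y := by
  unfold PX.Pure at hx hxy
  rw [DD_add_left, DD_add_right, DD_add_right, hx, zero_add, DD_comm y] at hxy
  rw [two_smul, eq_neg_iff_add_eq_zero, add_assoc]
  exact hxy

/-- `D(w, v_j - v_i)` for `i ∈ A`, `j ∉ A` -/
theorem D_step (h : TP K v) {a b c i j : Fin 8} (nd : [a, b, c, i, j].Nodup) :
    (2 : K) • DD K (v a + v b + v c + v i) (v j - v i) = - r v i j := by
  have h1 : _root_.Cfsg.Agent.R2.PX.Pure K (v a + v b + v c + v i) := h.pure4 (by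
    refine nd.sublist ?_
    rw [show [a, b, c, i, j] = [a, b, c, i] ++ [j] from rfl]
    exact List.sublist_append_left _ _)
  have h2 : _root_.Cfsg.Agent.R2.PX.Pure K (v a + v b + v c + v j) := h.pure4 (by
    refine nd.sublist ?_
    simp)
  have h3 : v a + v b + v c + v j = (v a + v b + v c + v i) + (v j - v i) := by abel
  rw [h3] at h2
  exact pure_add h1 h2

theorem D_pair (h : TP K v) {a b c i j : Fin 8} (nd : [a, b, c, i, j].Nodup) :
    (2 : K) • DD K (v a + v b + v c + v i) (v a + v b + v c + v j) = - r v i j := by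
  have h1 : _root_.Cfsg.Agent.R2.PX.Pure K (v a + v b + v c + v i) := h.pure4 (by
    refine nd.sublist ?_
    rw [show [a, b, c, i, j] = [a, b, c, i] ++ [j] from rfl]
    exact List.sublist_append_left _ _)
  unfold PX.Pure at h1
  have h3 : v a + v b + v c + v j = (v a + v b + v c + v i) + (v j - v i) := by abel
  rw [h3, DD_add_right, h1, zero_add]
  exact h.D_step nd

theorem iso4 (h : TP K v) (a b c d e f x y : Fin 8) :
    sf K (v a + v b + v c + v d) (v e + v f + v x + v y) = 0 := by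
  simp only [map_add, LinearMap.add_apply, h.iso, add_zero]

/-- the pure pair of `r_ij` -/
theorem pairRt (h : TP K v) (h2 : (2 : K) ≠ 0) {a b c i j : Fin 8} (nd : [a, b, c, i, j].Nodup) (hr : r v i j ≠ 0) :
    IsRt (r v i j) ∧ ∃ u, v a + v b + v c + v i = r v i j *ᵥ u := by
  have h1 : _root_.Cfsg.Agent.R2.PX.Pure K (v a + v b + v c + v i) := h.pure4 (by
    refine nd.sublist ?_
    rw [show [a, b, c, i, j] = [a, b, c, i] ++ [j] from rfl]
    exact List.sublist_append_left _ _)
  have h1' : _root_.Cfsg.Agent.R2.PX.Pure K (v a + v b + v c + v j) := h.pure4 (by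
    refine nd.sublist ?_
    simp)
  have h3 := h.D_pair nd
  have h4 : DD K (v a + v b + v c + v i) (v a + v b + v c + v j) = (-(2 : K)⁻¹) • r v i j := by
    have h5 := congrArg (fun m => (2 : K)⁻¹ • m) h3
    simp only [smul_smul, inv_mul_cancel₀ h2, one_smul] at h5
    rw [h5, smul_neg, neg_smul]
  have hc : (-(2 : K)⁻¹) ≠ 0 := neg_ne_zero.2 (inv_ne_zero h2)
  have h5 : DD K (v a + v b + v c + v i) (v a + v b + v c + v j) ≠ 0 := by
    rw [h4]; exact smul_ne_zero hc hr
  obtain ⟨h6, ⟨u, hu⟩, -⟩ := IsRt.of_pair h2 h1 h1' (h.iso4 _ _ _ _ _ _ _ _) h5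
  rw [h4] at h6 hu
  refine ⟨?_, (-(2 : K)⁻¹) • u, ?_⟩
  · have h7 := h6.smul (inv_ne_zero hc)
    rwa [smul_smul, inv_mul_cancel₀ hc, one_smul] at h7
  · rw [Matrix.mulVec_smul, ← Matrix.smul_mulVec]; exact hu

/-- disjoint pairs have proportional elements -/
theorem r_disj (h : TP K v) (h2 : (2 : K) ≠ 0) {i j c d a b : Fin 8} (nd : [i, j, c, d, a, b].Nodup)
    (hr : r v i j ≠ 0) : ∃ k : K, r v c d = k • r v i j := by
  have nd1 : [a, b, c, i, j].Nodup := by
    simp only [List.nodup_cons, List.mem_cons, List.not_mem_nil, not_or, List.nodup_nil, not_false_eq_true, and_true] at nd ⊢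
    (clear * - nd; (solve | grind only | tauto))
  have nd2 : [a, b, d, i, j].Nodup := by
    simp only [List.nodup_cons, List.mem_cons, List.not_mem_nil, not_or, List.nodup_nil, not_false_eq_true, and_true] at nd ⊢
    (clear * - nd; (solve | grind only | tauto))
  have nd3 : [a, b, i, c, d].Nodup := by
    simp only [List.nodup_cons, List.mem_cons, List.not_mem_nil, not_or, List.nodup_nil, not_false_eq_true, and_true] at nd ⊢
    (clear * - nd; (solve | grind only | tauto))
  obtain ⟨h3, u, hu⟩ := h.pairRt h2 nd1 hr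
  obtain ⟨-, w, hw⟩ := h.pairRt h2 nd2 hr
  have h4 := h.D_pair nd3
  rw [show v a + v b + v i + v c = v a + v b + v c + v i by abel,
    show v a + v b + v i + v d = v a + v b + v d + v i by abel, hu, hw] at h4
  obtain ⟨k, hk⟩ := h3.pair u w
  rw [hk, smul_smul] at h4
  refine ⟨-(2 * k), ?_⟩
  rw [neg_smul, h4, neg_neg]

/-- all the `r_ij` are non-zero if one is -/
theorem r_ne (h : TP K v) {i j k l : Fin 8} (hij : i ≠ j) (hkl : k ≠ l) (hr : r v i j ≠ 0) : r v k l ≠ 0 := by
  intro h0
  obtain ⟨a, b, c, d, e, f, nd⟩ := PX.W.ext2 hij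
  obtain ⟨a', b', c', d', e', f', nd'⟩ := PX.W.ext2 hkl
  have key : ∀ {i j a b c d e f : Fin 8}, [i, j, a, b, c, d, e, f].Nodup → [i, j, a, b, c, d].Nodup := by
    intro i j a b c d e f nd
    refine nd.sublist ?_
    rw [show [i, j, a, b, c, d, e, f] = [i, j, a, b, c, d] ++ [e, f] from rfl]
    exact List.sublist_append_left _ _
  obtain ⟨π, hs, h1, h2, -, -, -, -⟩ := even6 (key nd)
  obtain ⟨π', hs', h1', h2', -, -, -, -⟩ := even6 (key nd')
  obtain ⟨g, hg⟩ := h.act (π' * π⁻¹) (by rw [Perm.sign_mul, Perm.sign_inv, hs, hs']; rfl)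
  have h3 := r_conj hg i j
  have e1 : (π' * π⁻¹) i = k := by
    rw [Perm.mul_apply, ← h1, ← h1']; congr 1; exact π.symm_apply_apply 0
  have e2 : (π' * π⁻¹) j = l := by
    rw [Perm.mul_apply, ← h2, ← h2']; congr 1; exact π.symm_apply_apply 1
  rw [e1, e2, h0, Matrix.zero_mul] at h3
  apply hr
  calc r v i j = rho K g⁻¹ * (rho K g * r v i j) := by
        rw [← Matrix.mul_assoc, rho_inv_mul', Matrix.one_mul]
    _ = 0 := by rw [← h3, Matrix.mul_zero]

/-- `r_xy = r_yz` -/
theorem r_eq (h : TP K v) (h2 : (2 : K) ≠ 0) {x y z : Fin 8} (nd : [x, y, z].Nodup) (hr : r v x y ≠ 0) :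
    r v x y = r v y z := by
  have hxy : x ≠ y := by
    simp only [List.nodup_cons, List.mem_cons, not_or] at nd
    exact nd.1.1
  have hyz : y ≠ z := by
    simp only [List.nodup_cons, List.mem_cons, not_or] at nd
    exact nd.2.1.1
  have hxz : x ≠ z := by
    simp only [List.nodup_cons, List.mem_cons, not_or] at nd
    exact nd.1.2.1
  obtain ⟨i, hi⟩ := PX.W.exists_next _ nd (by simp)
  obtain ⟨j, a, b, c, hj⟩ := PX.W.ext4 hi
  simp only [List.nodup_cons, List.mem_cons, List.not_mem_nil, not_or, List.nodup_nil, not_false_eq_true, and_true] at hj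
  have ndd : [i, j, x, y, a, b].Nodup := by
    simp only [List.nodup_cons, List.mem_cons, List.not_mem_nil, not_or, List.nodup_nil, not_false_eq_true, and_true]
    (clear * - hj; (solve | grind only | tauto))
  have hij : i ≠ j := by (clear * - hj; (solve | (intros; casesm* _ ∨ _, _ ∧ _) <;> (first | contradiction | repeat (first | exact Or.inl (by assumption) | refine Or.inr ?_ | assumption)) | tauto))
  have hr' := h.r_ne hxy hij hr
  obtain ⟨k, hk⟩ := h.r_disj h2 ndd hr'
  -- the three-cycle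
  obtain ⟨g, hg⟩ := h.act (_root_.Equiv.swap x y * _root_.Equiv.swap y z) (by
    rw [Perm.sign_mul, Perm.sign_swap hxy, Perm.sign_swap hyz]; rfl)
  have e1 : (_root_.Equiv.swap x y * _root_.Equiv.swap y z : Perm (Fin 8)) x = y := by
    rw [Perm.mul_apply, swap_apply_of_ne_of_ne hxy hxz, swap_apply_left]
  have e2 : (_root_.Equiv.swap x y * _root_.Equiv.swap y z : Perm (Fin 8)) y = z := by
    rw [Perm.mul_apply, swap_apply_left, swap_apply_of_ne_of_ne (Ne.symm hxz) (Ne.symm hyz)]
  have e3 : (_root_.Equiv.swap x y * _root_.Equiv.swap y z : Perm (Fin 8)) i = i := by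
    have e5 : _root_.Equiv.swap y z i = i := swap_apply_of_ne_of_ne (by (clear * - hj; (solve | grind only | tauto))) (by (clear * - hj; (solve | grind only | tauto)))
    rw [Perm.mul_apply, e5, swap_apply_of_ne_of_ne (by (clear * - hj; (solve | grind only | tauto))) (by (clear * - hj; (solve | grind only | tauto)))]
  have e4 : (_root_.Equiv.swap x y * _root_.Equiv.swap y z : Perm (Fin 8)) j = j := by
    have e5 : _root_.Equiv.swap y z j = j := swap_apply_of_ne_of_ne (by (clear * - hj; (solve | grind only | tauto))) (by (clear * - hj; (solve | grind only | tauto)))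
    rw [Perm.mul_apply, e5, swap_apply_of_ne_of_ne (by (clear * - hj; (solve | grind only | tauto))) (by (clear * - hj; (solve | grind only | tauto)))]
  have h3 := r_conj hg x y
  have h4 := r_conj hg i j
  rw [e1, e2] at h3
  rw [e3, e4] at h4
  rw [hk, Matrix.mul_smul, ← h4, ← Matrix.smul_mul, ← hk] at h3
  calc r v x y = r v x y * (rho K g * rho K g⁻¹) := by rw [rho_mul_inv', Matrix.mul_one]
    _ = r v y z * (rho K g * rho K g⁻¹) := by rw [← Matrix.mul_assoc, ← Matrix.mul_assoc, h3]
    _ = r v y z := by rw [rho_mul_inv', Matrix.mul_one]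

/-- the matching relation -/
theorem matching (h : TP K v) : r v 0 4 + r v 1 5 + r v 2 6 + r v 3 7 = 0 := by
  have hsum := h.sum
  rw [Fin.sum_univ_eight] at hsum
  have hp : DD K (v 0 + v 1 + v 2 + v 3) (v 0 + v 1 + v 2 + v 3) = 0 := h.pure
  have h0 := h.D_step (a := 1) (b := 2) (c := 3) (i := 0) (j := 4) (by decide)
  have h1 := h.D_step (a := 0) (b := 2) (c := 3) (i := 1) (j := 5) (by decide)
  have h2 := h.D_step (a := 0) (b := 1) (c := 3) (i := 2) (j := 6) (by decide)
  have h3 := h.D_step (a := 0) (b := 1) (c := 2) (i := 3) (j := 7) (by decide)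
  rw [show v 1 + v 2 + v 3 + v 0 = v 0 + v 1 + v 2 + v 3 by abel] at h0
  rw [show v 0 + v 2 + v 3 + v 1 = v 0 + v 1 + v 2 + v 3 by abel] at h1
  rw [show v 0 + v 1 + v 3 + v 2 = v 0 + v 1 + v 2 + v 3 by abel] at h2
  have h4 : DD K (v 0 + v 1 + v 2 + v 3) ((v 4 - v 0) + (v 5 - v 1) + (v 6 - v 2) + (v 7 - v 3)) = 0 := by
    have e : (v 4 - v 0) + (v 5 - v 1) + (v 6 - v 2) + (v 7 - v 3) = (-2 : K) • (v 0 + v 1 + v 2 + v 3) := by
      have : v 4 + v 5 + v 6 + v 7 = - (v 0 + v 1 + v 2 + v 3) := by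
        rw [eq_neg_iff_add_eq_zero, ← hsum]; abel
      calc (v 4 - v 0) + (v 5 - v 1) + (v 6 - v 2) + (v 7 - v 3)
          = (v 4 + v 5 + v 6 + v 7) - (v 0 + v 1 + v 2 + v 3) := by abel
        _ = _ := by rw [this, neg_smul, two_smul]; abel
    rw [e, DD_smul_right, hp, smul_zero]
  rw [DD_add_right, DD_add_right, DD_add_right] at h4
  have h5 := congrArg (fun m => (2 : K) • m) h4
  simp only [smul_add, smul_zero, h0, h1, h2, h3] at h5
  rw [← neg_eq_zero]
  rw [← h5]
  abel

theorem r_zero (h : TP K v) (h2 : (2 : K) ≠ 0) {i j : Fin 8} (hij : i ≠ j) : r v i j = 0 := by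
  by_contra hne
  have hall : ∀ {k l : Fin 8}, k ≠ l → r v k l ≠ 0 := fun hkl => h.r_ne hij hkl hne
  have e1 : r v 0 4 = r v 1 5 := by
    rw [h.r_eq h2 (x := 0) (y := 4) (z := 1) (by decide) (hall (by decide)),
      h.r_eq h2 (x := 4) (y := 1) (z := 5) (by decide) (hall (by decide))]
  have e2 : r v 1 5 = r v 2 6 := by
    rw [h.r_eq h2 (x := 1) (y := 5) (z := 2) (by decide) (hall (by decide)),
      h.r_eq h2 (x := 5) (y := 2) (z := 6) (by decide) (hall (by decide))]
  have e3 : r v 2 6 = r v 3 7 := by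
    rw [h.r_eq h2 (x := 2) (y := 6) (z := 3) (by decide) (hall (by decide)),
      h.r_eq h2 (x := 6) (y := 3) (z := 7) (by decide) (hall (by decide))]
  have h3 := h.matching
  rw [e1, e2, e3] at h3
  have h4 : (2 * 2 : K) • r v 3 7 = 0 := by
    rw [← h3]; module
  exact smul_ne_zero (mul_ne_zero h2 h2) (hall (by decide)) h4

/-- **Q2** : the seven-dimensional subspace is totally pure -/
theorem zero (h : TP K v) (h2 : (2 : K) ≠ 0) (i j : Fin 8) : DD K (v i) (v j) = 0 := by
  -- `2 D(v_i, v_j) = D(v_i, v_i) + D(v_j, v_j)`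
  have h3 : ∀ i j, (2 : K) • DD K (v i) (v j) = DD K (v i) (v i) + DD K (v j) (v j) := by
    intro i j
    by_cases hij : i = j
    · subst hij; rw [two_smul]
    · have h4 := h.r_zero h2 hij
      unfold r at h4
      rw [sub_eq_add_neg, DD_add_left, DD_add_right, DD_add_right, DD_neg_left, DD_neg_left, DD_neg_right, DD_neg_right, neg_neg,
        DD_comm (v j) (v i)] at h4
      rw [two_smul, ← sub_eq_zero, ← neg_eq_zero, ← h4]
      abel
  have hs : ∀ i, ∑ j, DD K (v i) (v j) = 0 := by
    intro i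
    rw [← DD_sum_right, h.sum, DD_zero_right]
  have h8 : (8 : K) ≠ 0 := by
    have : (8 : K) = 2 * 2 * 2 := by norm_num
    rw [this]; exact mul_ne_zero (mul_ne_zero h2 h2) h2
  set T := ∑ j, DD K (v j) (v j) with hT
  have h5 : ∀ i, (8 : K) • DD K (v i) (v i) + T = 0 := by
    intro i
    have h6 : ∑ j, (2 : K) • DD K (v i) (v j) = (8 : K) • DD K (v i) (v i) + T := by
      rw [Finset.sum_congr rfl fun j _ => h3 i j, Finset.sum_add_distrib, Finset.sum_const, Finset.card_univ,
        Fintype.card_fin, hT]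
      congr 1
      rw [← Nat.cast_smul_eq_nsmul K]
      norm_num
    rw [← h6, ← Finset.smul_sum, hs, smul_zero]
  have h6 : (2 : K) • T = 0 := by
    have h7 : ∑ i : Fin 8, ((8 : K) • DD K (v i) (v i) + T) = 0 := Finset.sum_eq_zero fun i _ => h5 i
    rw [Finset.sum_add_distrib, ← Finset.smul_sum, ← hT, Finset.sum_const, Finset.card_univ, Fintype.card_fin,
      ← Nat.cast_smul_eq_nsmul K, ← add_smul] at h7
    have h9 : ((8 : K) + ((8 : ℕ) : K)) = 8 * 2 := by push_cast; norm_num
    rw [h9, mul_smul] at h7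
    exact (smul_eq_zero.1 h7).resolve_left h8
  have hT0 : T = 0 := (smul_eq_zero.1 h6).resolve_left h2
  have h7 : ∀ i, DD K (v i) (v i) = 0 := fun i => by
    have h9 := h5 i
    rw [hT0, add_zero] at h9
    exact (smul_eq_zero.1 h9).resolve_left h8
  have h9 := h3 i j
  rw [h7, h7, add_zero] at h9
  exact (smul_eq_zero.1 h9).resolve_left h2

end TP

end Cfsg.Agent.R2.T1.P3
end

-- part: R2/T1/P3/Q3
section
/-!
# S5771, box P3, step Q3 (helper3)

* `Sev ψ a b c` : `a i`, `b i` are the translates of a basis of the two-dimensional fixed space of `A_7`, with their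
  Gram matrices;
* `PQ f a b` : over the extension `K` there are two independent combinations for which the sum of four is pure;
* `exists_alpha` : an element of order `p` of `A_8` which commutes with the stabiliser of `ξ`.
-/

set_option autoImplicit false

namespace Cfsg.Agent.R2.T1.P3

open Cfsg Cfsg.Lie Module Matrix
open Cfsg.Agent.R2.T1 Cfsg.Agent.R2.T1.Mu Cfsg.Agent.R2.PX
open Cfsg.Agent.H943.E7V.Block (D1 rho)
open Cfsg.Agent.H952.F4 (MaxAlt)
open Equiv

universe u

/-- descent of membership in a subspace -/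
theorem span_desc {F K : Type u} [Field F] [Field K] (f : F →+* K) (W : Submodule F (D1 → F)) (w : D1 → F)
    (h : (fun i => f (w i)) ∈ Submodule.span K {x : D1 → K | ∃ y ∈ W, x = fun i => f (y i)}) : w ∈ W := by
  by_contra hw
  obtain ⟨φ, h1, h2⟩ := Submodule.exists_dual_map_eq_bot_of_notMem hw inferInstance
  let φK : (D1 → K) →ₗ[K] K :=
    { toFun := fun x => ∑ i, f (φ (Pi.single i 1)) * x i
      map_add' := fun x y => by simp only [mul_add, Finset.sum_add_distrib, _root_.Pi.add_apply]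
      map_smul' := fun c x => by
        simp only [Pi.smul_apply, smul_eq_mul, RingHom.id_apply, Finset.mul_sum]
        exact Finset.sum_congr rfl fun i _ => by ring }
  have hφ : ∀ y : D1 → F, φK (fun i => f (y i)) = f (φ y) := by
    intro y
    have h3 : y = ∑ i, y i • (Pi.single i 1 : D1 → F) := by
      funext j
      rw [Finset.sum_apply, Finset.sum_eq_single j]
      · simp
      · intro b _ hb
        simp [Pi.single_eq_of_ne (Ne.symm hb)]
      · intro hj
        exact absurd (Finset.mem_univ j) hj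
    conv_rhs => rw [h3]
    rw [map_sum, map_sum]
    show ∑ i, f (φ (Pi.single i 1)) * f (y i) = _
    refine Finset.sum_congr rfl fun i _ => ?_
    rw [map_smul, smul_eq_mul, map_mul]
    ring
  have h3 : Submodule.span K {x : D1 → K | ∃ y ∈ W, x = fun i => f (y i)} ≤ LinearMap.ker φK := by
    refine Submodule.span_le.2 ?_
    rintro _ ⟨y, hy, rfl⟩
    show φK _ = 0
    rw [hφ]
    have h4 : φ y ∈ W.map φ := ⟨y, hy, rfl⟩
    rw [h2, Submodule.mem_bot] at h4
    rw [h4, map_zero]
  have h4 : φK (fun i => f (w i)) = 0 := h3 h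
  rw [hφ] at h4
  exact h1 ((map_eq_zero f).1 h4)

/-- the seven-dimensional modules -/
structure Sev {F : Type u} [Field F] (ψ : ↥(alternatingGroup (Fin 8)) →* Gh F) (a b : Fin 8 → D1 → F) (c : F) : Prop where
  actA : ∀ (g : ↥(alternatingGroup (Fin 8))) (i : Fin 8), V F (ψ g) (a i) = a ((g : Perm (Fin 8)) i)
  actB : ∀ (g : ↥(alternatingGroup (Fin 8))) (i : Fin 8), V F (ψ g) (b i) = b ((g : Perm (Fin 8)) i)
  sumA : ∑ i, a i = 0
  sumB : ∑ i, b i = 0
  isoA : ∀ i j, sf F (a i) (a j) = 0
  isoB : ∀ i j, sf F (b i) (b j) = 0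
  ab : ∀ i j, sf F (a i) (b j) = if i = j then 7 * c else -c
  ne : c ≠ 0

/-- pure combinations over the extension -/
def PQ {F K : Type u} [Field F] [Field K] (f : F →+* K) (a b : Fin 8 → D1 → F) : Prop :=
  ∃ s1 t1 s2 t2 : K, s1 * t2 - t1 * s2 ≠ 0 ∧
    PX.Pure K (s1 • (fun x => f ((a 0 + a 1 + a 2 + a 3) x)) + t1 • (fun x => f ((b 0 + b 1 + b 2 + b 3) x))) ∧
    PX.Pure K (s2 • (fun x => f ((a 0 + a 1 + a 2 + a 3) x)) + t2 • (fun x => f ((b 0 + b 1 + b 2 + b 3) x)))

section
variable {F K : Type u} [Field F] [Field K] (f : F →+* K) {ψ : ↥(alternatingGroup (Fin 8)) →* Gh F}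
  {a b : Fin 8 → D1 → F} {c : F}

/-- the combination over the extension -/
def cb (a b : Fin 8 → D1 → F) (s t : K) (i : Fin 8) : D1 → K := s • (fun x => f (a i x)) + t • (fun x => f (b i x))

theorem swap_AB (hs : Sev ψ a b c) (i j : Fin 8) : sf F (b i) (a j) = - sf F (a i) (b j) := by
  rw [sf_swap, hs.ab, hs.ab]
  by_cases h : i = j
  · rw [if_pos h, if_pos h.symm]
  · rw [if_neg h, if_neg (Ne.symm h)]

theorem sf_cb (hs : Sev ψ a b c) (s t s' t' : K) (i j : Fin 8) :
    sf K (cb f a b s t i) (cb f a b s' t' j) = (s * t' - t * s') * f (if i = j then 7 * c else -c) := by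
  unfold cb
  simp only [map_add, map_smul, LinearMap.add_apply, LinearMap.smul_apply, smul_eq_mul, sf_emb, hs.isoA, hs.isoB,
    swap_AB hs, hs.ab, map_zero, mul_zero, zero_add, add_zero, map_neg]
  ring

theorem sum_cb (hs : Sev ψ a b c) (s t : K) : ∑ i, cb f a b s t i = 0 := by
  unfold cb
  rw [Finset.sum_add_distrib, ← Finset.smul_sum, ← Finset.smul_sum]
  have h1 : ∑ i, (fun x => f (a i x) : D1 → K) = 0 := by
    funext x
    rw [Finset.sum_apply, ← map_sum, ← Finset.sum_apply, hs.sumA]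
    simp
  have h2 : ∑ i, (fun x => f (b i x) : D1 → K) = 0 := by
    funext x
    rw [Finset.sum_apply, ← map_sum, ← Finset.sum_apply, hs.sumB]
    simp
  rw [h1, h2, smul_zero, smul_zero, add_zero]

theorem act_cb (hs : Sev ψ a b c) (s t : K) (g : ↥(alternatingGroup (Fin 8))) (i : Fin 8) :
    V K (emb f (ψ g)) (cb f a b s t i) = cb f a b s t ((g : Perm (Fin 8)) i) := by
  unfold cb
  rw [map_add, map_smul, map_smul, V_emb, V_emb, hs.actA, hs.actB]

theorem tp_cb (hs : Sev ψ a b c) {s t : K}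
    (hP : PX.Pure K (s • (fun x => f ((a 0 + a 1 + a 2 + a 3) x)) + t • (fun x => f ((b 0 + b 1 + b 2 + b 3) x)))) :
    TP K (cb f a b s t) where
  act π hπ := ⟨emb f (ψ ⟨π, Perm.mem_alternatingGroup.2 hπ⟩), fun i => act_cb f hs s t _ i⟩
  sum := sum_cb f hs s t
  iso i j := by rw [sf_cb f hs, mul_comm t s, sub_self, zero_mul]
  pure := by
    have h : cb f a b s t 0 + cb f a b s t 1 + cb f a b s t 2 + cb f a b s t 3 =
        s • (fun x => f ((a 0 + a 1 + a 2 + a 3) x)) + t • (fun x => f ((b 0 + b 1 + b 2 + b 3) x)) := by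
      unfold cb
      funext x
      simp only [Pi.add_apply, Pi.smul_apply, smul_eq_mul, map_add]
      ring
    rw [h]; exact hP

/-- the combination with coefficients `ξ` -/
def cx (a b : Fin 8 → D1 → F) (ξ : Fin 8 → F) (s t : K) : D1 → K := ∑ i, f (ξ i) • cb f a b s t i

theorem sf_cx (hs : Sev ψ a b c) (ξ : Fin 8 → F) (s t s' t' : K) (k : Fin 8) :
    sf K (cb f a b s t k) (cx f a b ξ s' t') = (s * t' - t * s') * f (c * (8 * ξ k - ∑ i, ξ i)) := by
  unfold cx
  rw [map_sum]
  simp only [map_smul, smul_eq_mul, sf_cb f hs]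
  have h : ∀ i, f (ξ i) * ((s * t' - t * s') * f (if k = i then 7 * c else -c)) =
      (s * t' - t * s') * f (ξ i * (if k = i then 7 * c else -c)) := fun i => by rw [map_mul]; ring
  rw [Finset.sum_congr rfl fun i _ => h i, ← Finset.mul_sum, ← map_sum]
  congr 2
  have h2 : ∀ i, ξ i * (if k = i then 7 * c else -c) = (if k = i then 8 * c * ξ i else 0) - c * ξ i := fun i => by
    split_ifs <;> ring
  rw [Finset.sum_congr rfl fun i _ => h2 i, Finset.sum_sub_distrib, Finset.sum_ite_eq, if_pos (Finset.mem_univ k),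
    ← Finset.mul_sum]
  ring

theorem cx_lin (ξ : Fin 8 → F) (s t s' t' α β : K) :
    cx f a b ξ (α * s + β * s') (α * t + β * t') = α • cx f a b ξ s t + β • cx f a b ξ s' t' := by
  unfold cx cb
  rw [Finset.smul_sum, Finset.smul_sum, ← Finset.sum_add_distrib]
  refine Finset.sum_congr rfl fun i _ => ?_
  module

theorem cx_emb (ξ : Fin 8 → F) (x y : F) :
    cx f a b ξ (f x) (f y) = fun i => f ((∑ k, ξ k • (x • a k + y • b k)) i) := by
  funext i
  unfold cx cb
  rw [Finset.sum_apply, Finset.sum_apply, map_sum]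
  refine Finset.sum_congr rfl fun k _ => ?_
  simp only [Pi.smul_apply, Pi.add_apply, smul_eq_mul, map_mul, map_add]

theorem DD_cx (h2 : (2 : K) ≠ 0) {s t : K} (h : TP K (cb f a b s t)) (ξ : Fin 8 → F) :
    DD K (cx f a b ξ s t) (cx f a b ξ s t) = 0 ∧ ∀ k, DD K (cx f a b ξ s t) (cb f a b s t k) = 0 := by
  have h1 : ∀ k, DD K (cx f a b ξ s t) (cb f a b s t k) = 0 := by
    intro k
    unfold cx
    rw [DD_sum_left]
    refine Finset.sum_eq_zero fun i _ => ?_
    rw [DD_smul_left, h.zero h2, smul_zero]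
  refine ⟨?_, h1⟩
  conv_lhs => rw [show cx f a b ξ s t = ∑ i, f (ξ i) • cb f a b s t i from rfl]
  rw [DD_sum_left]
  refine Finset.sum_eq_zero fun i _ => ?_
  rw [DD_smul_left, DD_comm, ← show cx f a b ξ s t = ∑ i, f (ξ i) • cb f a b s t i from rfl, h1, smul_zero]

theorem cb_lin (s t s' t' α β : K) (k : Fin 8) :
    cb f a b (α * s + β * s') (α * t + β * t') k = α • cb f a b s t k + β • cb f a b s' t' k := by
  unfold cb
  module

theorem sf_cx_cx (hs : Sev ψ a b c) {ξ : Fin 8 → F} (h0 : 8 * ∑ i, ξ i ^ 2 = (∑ i, ξ i) ^ 2) (s t s' t' : K) :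
    sf K (cx f a b ξ s t) (cx f a b ξ s' t') = 0 := by
  have h : sf K (cx f a b ξ s t) (cx f a b ξ s' t') =
      ∑ k, f (ξ k) * sf K (cb f a b s t k) (cx f a b ξ s' t') := by
    conv_lhs => rw [show cx f a b ξ s t = ∑ i, f (ξ i) • cb f a b s t i from rfl]
    rw [map_sum, LinearMap.sum_apply]
    simp only [map_smul, LinearMap.smul_apply, smul_eq_mul]
  rw [h]
  simp only [sf_cx f hs]
  have h1 : ∀ k, f (ξ k) * ((s * t' - t * s') * f (c * (8 * ξ k - ∑ i, ξ i))) =
      (s * t' - t * s') * f (c * (8 * ξ k ^ 2 - (∑ i, ξ i) * ξ k)) := fun k => by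
    rw [mul_left_comm, ← map_mul]
    congr 2
    ring
  rw [Finset.sum_congr rfl fun k _ => h1 k, ← Finset.mul_sum, ← map_sum, ← Finset.mul_sum, Finset.sum_sub_distrib,
    ← Finset.mul_sum, ← Finset.mul_sum, h0, pow_two, sub_self, mul_zero, map_zero, mul_zero]

/-- the action of `D(v u₁, v u₂)` -/
theorem M_cb (hs : Sev ψ a b c) (h2 : (2 : K) ≠ 0) {ξ : Fin 8 → F} (h0 : 8 * ∑ i, ξ i ^ 2 = (∑ i, ξ i) ^ 2)
    {s t s' t' : K} (h : TP K (cb f a b s t)) (k : Fin 8) :
    DD K (cx f a b ξ s t) (cx f a b ξ s' t') *ᵥ cb f a b s t k =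
      (2 * sf K (cx f a b ξ s' t') (cb f a b s t k)) • cx f a b ξ s t := by
  have h1 := _root_.Cfsg.Agent.R2.T1.Mu.ident (F := K) (cx f a b ξ s t) (cx f a b ξ s' t') (cb f a b s t k)
  have h3 : sf K (cx f a b ξ s t) (cb f a b s t k) = 0 := by
    rw [sf_swap, sf_cx f hs, mul_comm t s, sub_self, zero_mul, neg_zero]
  rw [(DD_cx f h2 h ξ).2 k, Matrix.zero_mulVec, sub_zero, h3, zero_smul, add_zero, sf_cx_cx f hs h0, zero_smul,
    sub_zero] at h1
  exact h1

/-- the key element over `F` -/
theorem exists_m (h2 : (2 : F) ≠ 0) (hs : Sev ψ a b c) (hP : PQ f a b) {ξ : Fin 8 → F}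
    (h0 : 8 * ∑ i, ξ i ^ 2 = (∑ i, ξ i) ^ 2) (hξ : ∃ k, 8 * ξ k - ∑ i, ξ i ≠ 0) :
    ∃ x y : F, IsRt ((DD F (∑ k, ξ k • (x • a k + y • b k)) (∑ k, ξ k • (x • a k + y • b k))).map f) ∧
      ∀ w ∈ Submodule.span F (Set.range a ∪ Set.range b),
        DD F (∑ k, ξ k • (x • a k + y • b k)) (∑ k, ξ k • (x • a k + y • b k)) *ᵥ w ∈
          Submodule.span F (Set.range a ∪ Set.range b) := by
  have h2K : (2 : K) ≠ 0 := by
    intro h
    apply h2
    apply (map_eq_zero f).1
    rw [map_ofNat]; exact h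
  obtain ⟨s1, t1, s2, t2, hΔ, hp1, hp2⟩ := hP
  have T1 := tp_cb f hs hp1
  have T2 := tp_cb f hs hp2
  have hc : f c ≠ 0 := fun h => hs.ne ((map_eq_zero f).1 h)
  -- the choice of `x`, `y`
  obtain ⟨x, y, hx, hy⟩ : ∃ x y : F, f x * t2 - f y * s2 ≠ 0 ∧ f y * s1 - f x * t1 ≠ 0 := by
    by_cases h1 : t2 ≠ 0 ∧ t1 ≠ 0
    · refine ⟨1, 0, ?_, ?_⟩
      · rw [map_one, map_zero, one_mul, zero_mul, sub_zero]; exact h1.1
      · rw [map_one, map_zero, one_mul, zero_mul, zero_sub]; exact neg_ne_zero.2 h1.2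
    by_cases h3 : s2 ≠ 0 ∧ s1 ≠ 0
    · refine ⟨0, 1, ?_, ?_⟩
      · rw [map_one, map_zero, one_mul, zero_mul, zero_sub]; exact neg_ne_zero.2 h3.1
      · rw [map_one, map_zero, one_mul, zero_mul, sub_zero]; exact h3.2
    refine ⟨1, 1, ?_, ?_⟩
    · rw [map_one, one_mul, one_mul]
      intro h4
      have h5 : t2 = s2 := sub_eq_zero.1 h4
      apply hΔ
      by_cases h6 : t2 = 0
      · rw [← h5, h6]; ring
      · have h7 : t1 = 0 := by
          by_contra h8; exact h1 ⟨h6, h8⟩
        have h8 : s1 = 0 := by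
          by_contra h9; exact h3 ⟨by rw [← h5]; exact h6, h9⟩
        rw [h7, h8]; ring
    · rw [map_one, one_mul, one_mul]
      intro h4
      have h5 : s1 = t1 := sub_eq_zero.1 h4
      apply hΔ
      by_cases h6 : t1 = 0
      · rw [h5, h6]; ring
      · have h7 : t2 = 0 := by
          by_contra h8; exact h1 ⟨h8, h6⟩
        have h8 : s2 = 0 := by
          by_contra h9; exact h3 ⟨h9, by rw [h5]; exact h6⟩
        rw [h7, h8]; ring
  refine ⟨x, y, ?_⟩
  set u : D1 → F := ∑ k, ξ k • (x • a k + y • b k) with hu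
  set Δ : K := s1 * t2 - t1 * s2 with hΔdef
  set ve := cx f a b ξ s1 t1 with hve
  set vh := cx f a b ξ s2 t2 with hvh
  have key : Δ⁻¹ * Δ = 1 := inv_mul_cancel₀ hΔ
  have hfu : (fun i => f (u i)) = (Δ⁻¹ * (f x * t2 - f y * s2)) • ve + (Δ⁻¹ * (f y * s1 - f x * t1)) • vh := by
    rw [hu, ← cx_emb, hve, hvh, ← cx_lin]
    congr 1
    · linear_combination (-(f x)) * key + Δ⁻¹ * f x * hΔdef
    · linear_combination (-(f y)) * key + Δ⁻¹ * f y * hΔdef
  have hmap : (DD F u u).map f = (2 * ((Δ⁻¹ * (f x * t2 - f y * s2)) * (Δ⁻¹ * (f y * s1 - f x * t1)))) • DD K ve vh := by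
    rw [← DD_emb, hfu, DD_add_left, DD_add_right, DD_add_right, DD_smul_left, DD_smul_left, DD_smul_left, DD_smul_left,
      DD_smul_right, DD_smul_right, DD_smul_right, DD_smul_right, (DD_cx f h2K T1 ξ).1, (DD_cx f h2K T2 ξ).1,
      DD_comm vh ve]
    module
  have hk : (2 * ((Δ⁻¹ * (f x * t2 - f y * s2)) * (Δ⁻¹ * (f y * s1 - f x * t1)))) ≠ 0 :=
    mul_ne_zero h2K (mul_ne_zero (mul_ne_zero (inv_ne_zero hΔ) hx) (mul_ne_zero (inv_ne_zero hΔ) hy))
  obtain ⟨k, hk8⟩ := hξ
  have hk8' : f (c * (8 * ξ k - ∑ i, ξ i)) ≠ 0 := fun h => (mul_ne_zero hs.ne hk8) ((map_eq_zero f).1 h)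
  have hve0 : ve ≠ 0 := by
    intro h
    have h3 := sf_cx f hs ξ s2 t2 s1 t1 k
    rw [← hve, h, map_zero] at h3
    have h4 : s2 * t1 - t2 * s1 = -Δ := by rw [hΔdef]; ring
    rw [h4] at h3
    exact (mul_ne_zero (neg_ne_zero.2 hΔ) hk8') h3.symm
  have hD : DD K ve vh ≠ 0 := by
    intro h
    have h3 := M_cb f hs h2K h0 (s' := s2) (t' := t2) T1 k
    rw [← hve, ← hvh, h, Matrix.zero_mulVec, sf_swap, hvh, sf_cx f hs] at h3
    refine smul_ne_zero ?_ hve0 h3.symm
    exact mul_ne_zero h2K (neg_ne_zero.2 (mul_ne_zero hΔ hk8'))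
  have hRt : IsRt (DD K ve vh) := (IsRt.of_pair h2K (DD_cx f h2K T1 ξ).1 (DD_cx f h2K T2 ξ).1
    (sf_cx_cx f hs h0 _ _ _ _) hD).1
  refine ⟨by rw [hmap]; exact hRt.smul hk, ?_⟩
  -- the span
  set W := Submodule.span F (Set.range a ∪ Set.range b) with hW
  set WK := Submodule.span K {x : D1 → K | ∃ y ∈ W, x = fun i => f (y i)} with hWK
  have ha : ∀ i, a i ∈ W := fun i => Submodule.subset_span (Or.inl ⟨i, rfl⟩)
  have hb : ∀ i, b i ∈ W := fun i => Submodule.subset_span (Or.inr ⟨i, rfl⟩)
  have hcb : ∀ s t i, cb f a b s t i ∈ WK := fun s t i =>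
    Submodule.add_mem _ (Submodule.smul_mem _ _ (Submodule.subset_span ⟨_, ha i, rfl⟩))
      (Submodule.smul_mem _ _ (Submodule.subset_span ⟨_, hb i, rfl⟩))
  have hcx : ∀ s t, cx f a b ξ s t ∈ WK := fun s t =>
    Submodule.sum_mem _ fun i _ => Submodule.smul_mem _ _ (hcb s t i)
  have hM : ∀ s t i, DD K ve vh *ᵥ cb f a b s t i ∈ WK := by
    intro s t i
    have h3 : cb f a b s t i = (Δ⁻¹ * (s * t2 - t * s2)) • cb f a b s1 t1 i + (Δ⁻¹ * (t * s1 - s * t1)) • cb f a b s2 t2 i := by
      rw [← cb_lin]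
      congr 1
      · linear_combination (-s) * key + Δ⁻¹ * s * hΔdef
      · linear_combination (-t) * key + Δ⁻¹ * t * hΔdef
    rw [h3, Matrix.mulVec_add, Matrix.mulVec_smul, Matrix.mulVec_smul]
    refine Submodule.add_mem _ (Submodule.smul_mem _ _ ?_) (Submodule.smul_mem _ _ ?_)
    · rw [hve, hvh, M_cb f hs h2K h0 T1]
      exact Submodule.smul_mem _ _ (hcx _ _)
    · rw [hve, hvh, DD_comm, M_cb f hs h2K h0 T2]
      exact Submodule.smul_mem _ _ (hcx _ _)
  have hMF : ∀ w : D1 → F, (∃ s t i, (fun j => f (w j)) = cb f a b s t i) → DD F u u *ᵥ w ∈ W := by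
    rintro w ⟨s, t, i, h3⟩
    apply span_desc f
    have h4 : (fun i => f ((DD F u u *ᵥ w) i)) = (DD F u u).map f *ᵥ fun i => f (w i) := by
      funext j
      exact RingHom.map_mulVec f (DD F u u) w j
    rw [h4, h3, hmap, Matrix.smul_mulVec]
    exact Submodule.smul_mem _ _ (hM s t i)
  intro w hw
  induction hw using Submodule.span_induction with
  | zero => rw [Matrix.mulVec_zero]; exact Submodule.zero_mem _
  | add a b _ _ ha hb => rw [Matrix.mulVec_add]; exact Submodule.add_mem _ ha hb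
  | smul r a _ ha => rw [Matrix.mulVec_smul]; exact Submodule.smul_mem _ _ ha
  | mem w hw =>
    rcases hw with ⟨i, rfl⟩ | ⟨i, rfl⟩
    · refine hMF _ ⟨1, 0, i, ?_⟩
      unfold cb
      rw [one_smul, zero_smul, add_zero]
    · refine hMF _ ⟨0, 1, i, ?_⟩
      unfold cb
      rw [one_smul, zero_smul, zero_add]

theorem pow_one_add {m : Matrix D1 D1 F} (hm : m * m = 0) (n : ℕ) : (1 + m) ^ n = 1 + n • m := by
  induction n with
  | zero => simp
  | succ n ih =>
    have h1 : (n • m) * m = 0 := by rw [Matrix.smul_mul, hm, smul_zero]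
    rw [pow_succ, ih, Matrix.add_mul, Matrix.mul_add, Matrix.mul_add, h1, add_zero,
      Matrix.mul_one, Matrix.one_mul, Matrix.mul_one, succ_nsmul]
    abel

/-- **Q3** : the root element over `F` -/
theorem exists_z [Finite F] [IsAlgClosed K] {p : ℕ} [CharP F p] (h2 : (2 : F) ≠ 0) {H : Subgroup ↥(chevE7.group F)}
    (hM : IsCoatom H) (hs : Sev ψ a b c) (hS : Stab (V F) H (Submodule.span F (Set.range a ∪ Set.range b)))
    (hP : PQ f a b) {ξ : Fin 8 → F} (h0 : 8 * ∑ i, ξ i ^ 2 = (∑ i, ξ i) ^ 2) (hξ : ∃ k, 8 * ξ k - ∑ i, ξ i ≠ 0) :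
    ∃ z : Gh F, ad F z ∈ H ∧ z ^ p = 1 ∧ ad F z ≠ 1 ∧
      ∀ g : ↥(alternatingGroup (Fin 8)), (∀ i, ξ ((g : Perm (Fin 8)) i) = ξ i) → ψ g * z = z * ψ g := by
  obtain ⟨x, y, hRt, hW⟩ := exists_m f h2 hs hP h0 hξ
  set u : D1 → F := ∑ k, ξ k • (x • a k + y • b k) with hu
  obtain ⟨z, hz⟩ := exp_desc f hRt 1
  rw [one_smul] at hz
  have hsq : DD F u u * DD F u u = 0 := by
    have h1 := hRt.sq
    rw [← Matrix.map_mul] at h1
    ext i j
    have h3 := congrFun (congrFun h1 i) j
    rw [Matrix.map_apply, Matrix.zero_apply] at h3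
    rw [Matrix.zero_apply]
    exact (map_eq_zero f).1 h3
  have hne : DD F u u ≠ 0 := by
    intro h
    apply hRt.ne
    rw [h]
    exact Matrix.map_zero _ (map_zero f)
  have hzp : z ^ p = 1 := by
    apply rho_injective
    rw [map_pow, hz, pow_one_add hsq, map_one, ← Nat.cast_smul_eq_nsmul F, CharP.cast_eq_zero, zero_smul, add_zero]
  have h0W : Submodule.span F (Set.range a ∪ Set.range b) ≠ ⊥ := by
    intro h
    have h1 : a 0 ∈ Submodule.span F (Set.range a ∪ Set.range b) := Submodule.subset_span (Or.inl ⟨0, rfl⟩)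
    rw [h, Submodule.mem_bot] at h1
    have h3 := hs.ab 0 1
    rw [h1, map_zero, LinearMap.zero_apply, if_neg (by decide)] at h3
    exact neg_ne_zero.2 hs.ne h3.symm
  have h1W : Submodule.span F (Set.range a ∪ Set.range b) ≠ ⊤ := by
    intro h
    have h1 : Module.finrank F ↥(Submodule.span F (Set.range a ∪ Set.range b)) ≤ 16 := by
      have h3 : Set.range a ∪ Set.range b = Set.range (Sum.elim a b) := (Set.Sum.elim_range a b).symm
      rw [h3]
      refine (finrank_range_le_card (Sum.elim a b)).trans ?_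
      simp
    rw [h, finrank_top, Module.finrank_fintype_fun_eq_card] at h1
    have h4 : Fintype.card D1 = 56 := Cfsg.Agent.H943.E7V.Block.card_D1
    omega
  have hzH : ad F z ∈ H := by
    refine blue hM hS h0W h1W (g := z) fun w hw => ?_
    rw [V_apply, hz, Matrix.add_mulVec, Matrix.one_mulVec]
    exact Submodule.add_mem _ hw (hW w hw)
  refine ⟨z, hzH, hzp, ?_, ?_⟩
  · intro had
    rcases ad_eq_one_iff.1 had with h | h
    · have h3 : rho F z = 1 := by
        rw [faithful h, map_one]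
      rw [hz] at h3
      exact hne (add_eq_left.1 h3)
    · have h3 : rho F z = -1 := by
        apply Matrix.toLin'.injective
        have h4 := h
        rw [V_eq] at h4
        rw [h4, map_neg, Matrix.toLin'_one]
        rfl
      have h5 : DD F u u = (-2 : F) • 1 := by
        rw [hz] at h3
        have h6 : DD F u u = -1 - 1 := by rw [← h3]; abel
        rw [h6, neg_smul, two_smul]; abel
      rw [h5, Matrix.smul_mul, Matrix.one_mul, smul_smul] at hsq
      have h6 := congrFun (congrFun hsq topv) topv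
      rw [Matrix.smul_apply, Matrix.one_apply_eq, Matrix.zero_apply, smul_eq_mul, mul_one] at h6
      exact (mul_ne_zero (neg_ne_zero.2 h2) (neg_ne_zero.2 h2)) h6
  · intro g hg
    apply rho_injective
    have h3 : V F (ψ g) u = u := by
      rw [hu, map_sum]
      have h4 : ∀ k, V F (ψ g) (ξ k • (x • a k + y • b k)) =
          ξ ((g : Perm (Fin 8)) k) • (x • a ((g : Perm (Fin 8)) k) + y • b ((g : Perm (Fin 8)) k)) := fun k => by
        rw [map_smul, map_add, map_smul, map_smul, hs.actA, hs.actB, hg]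
      rw [Finset.sum_congr rfl fun k _ => h4 k]
      exact Equiv.sum_comp (g : Perm (Fin 8)) fun k => ξ k • (x • a k + y • b k)
    have h4 := equi F (ψ g) u u
    rw [h3] at h4
    rw [map_mul, map_mul, hz, Matrix.mul_add, Matrix.add_mul, h4, Matrix.mul_one, Matrix.one_mul]

end

end Cfsg.Agent.R2.T1.P3
end

private theorem dce_5a74504da89a : _root_.True := by
  try have : _root_.True := by simp only [_root_.Cfsg.Agent.R2.T1.P3.TP.r.eq_1]
  exact _root_.True.intro
end
end
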